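import Cfsg.Agent.S4700
import Cfsg.Agent.Lib.Blocks.Covering

/-!
# Groups of order `p (p - 1) (p - 2)` with a self-centralizing Sylow subgroup of order `p`
-/

set_option autoImplicit false
set_option linter.style.haveILetI false
set_option linter.unusedSectionVars false

namespace Cfsg.Agent.PrimeBlock.SubTwo

open scoped commutatorElement

universe u

variable {Q : Type u} [Group Q] [Finite Q] {p : ℕ} [Fact p.Prime] (P : Sylow p Q)
  (hP : Nat.card (P : Subgroup Q) = p)
  (hC : Nat.card (Subgroup.centralizer ((P : Subgroup Q) : Set Q)) = p)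
  (h5 : 5 < p) (hQ : Nat.card Q = p * (p - 1) * (p - 2))

include hP hC in
theorem centralizer_order_p {x : Q} (hx : orderOf x = p) :
    Nat.card (Subgroup.centralizer ({x} : Set Q)) = p := by
  obtain ⟨R, hR⟩ := (IsPGroup.of_card (n := 1) (by rw [Nat.card_zpowers, hx, pow_one]) :
    IsPGroup p (Subgroup.zpowers x)).exists_le_sylow
  have hRc : Nat.card (R : Subgroup Q) = p := by
    rw [R.card_eq_multiplicity, ← P.card_eq_multiplicity, hP]
  have hRx : Subgroup.zpowers x = (R : Subgroup Q) :=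
    Subgroup.eq_of_le_of_card_ge hR (by rw [hRc, Nat.card_zpowers, hx])
  rw [← Subgroup.centralizer_closure, ← Subgroup.zpowers_eq_closure, hRx]
  obtain ⟨a, rfl⟩ := MulAction.exists_smul_eq Q P R
  rw [show ((a • P : Sylow p Q) : Subgroup Q) = (P : Subgroup Q).map (MulAut.conj a).toMonoidHom from rfl]
  refine Eq.trans ?_ hC
  refine Nat.card_congr (Equiv.subtypeEquiv (MulAut.conj a⁻¹).toEquiv fun y => ?_)
  constructor
  · intro hy
    refine Subgroup.mem_centralizer_iff.2 fun z hz => ?_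
    have h := Subgroup.mem_centralizer_iff.1 hy (a * z * a⁻¹) ⟨z, hz, rfl⟩
    show z * (a⁻¹ * y * a⁻¹⁻¹) = a⁻¹ * y * a⁻¹⁻¹ * z
    rw [inv_inv]
    calc z * (a⁻¹ * y * a) = a⁻¹ * (a * z * a⁻¹ * y) * a := by group
      _ = a⁻¹ * (y * (a * z * a⁻¹)) * a := by rw [h]
      _ = _ := by group
  · intro hy
    refine Subgroup.mem_centralizer_iff.2 ?_
    rintro _ ⟨z, hz, rfl⟩
    have h : z * (a⁻¹ * y * a) = a⁻¹ * y * a * z := by
      have h := Subgroup.mem_centralizer_iff.1 hy z hz
      simpa using h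
    show a * z * a⁻¹ * y = y * (a * z * a⁻¹)
    calc a * z * a⁻¹ * y = a * (z * (a⁻¹ * y * a)) * a⁻¹ := by group
      _ = a * (a⁻¹ * y * a * z) * a⁻¹ := by rw [h]
      _ = _ := by group

include hP hC h5 hQ in
/-- There is no non-trivial normal subgroup of order prime to `p`. -/
theorem eq_bot_of_not_dvd (L : Subgroup Q) [L.Normal] (hL : ¬ p ∣ Nat.card L) : L = ⊥ := by
  classical
  have hp : p.Prime := Fact.out
  by_contra hne
  obtain ⟨r, hr, hrL⟩ := Nat.exists_prime_and_dvd (fun h => hne (Subgroup.card_eq_one.1 h))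
  haveI := Fact.mk hr
  obtain ⟨R⟩ := (inferInstance : Nonempty (Sylow r L))
  set R' := (R : Subgroup L).map L.subtype with hR'def
  have hsup : Subgroup.normalizer (R' : Set Q) ⊔ L = ⊤ := Sylow.normalizer_sup_eq_top R
  have hrp : r ≠ p := fun e => hL (e ▸ hrL)
  have hpN : p ∣ Nat.card (Subgroup.normalizer (R' : Set Q)) := by
    have h1 : L.relIndex (Subgroup.normalizer (R' : Set Q)) = L.index := by
      rw [← Subgroup.relIndex_sup_right, hsup, Subgroup.relIndex_top_right]
    have h2 : p ∣ L.index := by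
      have hd : p ∣ L.index * Nat.card L := by
        rw [Subgroup.index_mul_card, hQ]; exact (dvd_mul_right _ _).mul_right _
      exact (hp.dvd_mul.1 hd).resolve_right hL
    exact h2.trans (h1 ▸ Subgroup.index_dvd_card _)
  obtain ⟨⟨x, hxN⟩, hxo⟩ := exists_prime_orderOf_dvd_card' p hpN
  rw [Subgroup.orderOf_mk] at hxo
  -- fixed point free action on `R'`
  let f : Subgroup.zpowers x →* MulAut R' :=
    R'.normalizerMonoidHom.comp (Subgroup.inclusion (Subgroup.zpowers_le.2 hxN))
  letI : MulAction (Subgroup.zpowers x) R' := MulAction.compHom R' f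
  haveI := Fintype.ofFinite R'
  have hpg : IsPGroup p (Subgroup.zpowers x) :=
    IsPGroup.of_card (n := 1) (by rw [Nat.card_zpowers, hxo, pow_one])
  have hfix : MulAction.fixedPoints (Subgroup.zpowers x) R' = {1} := by
    refine Set.eq_singleton_iff_unique_mem.2 ⟨fun n => map_one (f n), fun y hy => ?_⟩
    have h1 := congrArg Subtype.val (hy ⟨x, Subgroup.mem_zpowers x⟩)
    change x * (y : Q) * x⁻¹ = y at h1
    by_contra hy1
    have hcard := centralizer_order_p P hP hC hxo
    have heq : Subgroup.zpowers x = Subgroup.centralizer ({x} : Set Q) :=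
      Subgroup.eq_of_le_of_card_ge (Subgroup.zpowers_le.2 (Subgroup.mem_centralizer_singleton_iff.2 rfl))
        (by rw [hcard, Nat.card_zpowers, hxo])
    have hmem : (y : Q) ∈ Subgroup.zpowers x := by
      rw [heq, Subgroup.mem_centralizer_singleton_iff]
      exact (mul_inv_eq_iff_eq_mul.1 h1).symm
    obtain ⟨k, hk⟩ := (IsPGroup.of_card (n := 1) (by rw [Nat.card_zpowers, hxo, pow_one]) :
      IsPGroup p (Subgroup.zpowers x)) ⟨(y : Q), hmem⟩
    have hyp : orderOf (y : Q) ∣ p ^ k := orderOf_dvd_of_pow_eq_one (congrArg Subtype.val hk)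
    have hyr : orderOf (y : Q) ∣ Nat.card R' := R'.orderOf_dvd_natCard y.2
    obtain ⟨a, ha⟩ := IsPGroup.iff_card.1 (R.2.map L.subtype)
    rw [ha] at hyr
    refine hy1 (Subtype.ext (orderOf_eq_one_iff.1 (Nat.eq_one_of_dvd_coprimes ?_ hyp hyr)))
    exact Nat.Coprime.pow _ _ ((Nat.coprime_primes hp hr).2 (Ne.symm hrp))
  have hmod := hpg.card_modEq_card_fixedPoints R'
  rw [hfix, show Nat.card ({1} : Set R') = 1 from Nat.card_eq_one_iff_unique.2
    ⟨⟨fun a b => Subtype.ext (a.2.trans b.2.symm)⟩, ⟨⟨1, rfl⟩⟩⟩] at hmod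
  obtain ⟨a, ha⟩ := IsPGroup.iff_card.1 (R.2.map L.subtype)
  have ha0 : 1 ≤ a := by
    by_contra h0
    have h1 : Nat.card (R : Subgroup L) = 1 := by
      rw [← Subgroup.card_map_of_injective L.subtype_injective, ha, show a = 0 by omega, pow_zero]
    have h2 := Sylow.dvd_card_of_dvd_card R hrL
    rw [h1] at h2
    exact hr.one_lt.ne' (Nat.dvd_one.1 h2)
  have hdvd : r ^ a ∣ (p - 1) * (p - 2) := by
    have h1 : r ^ a ∣ p * ((p - 1) * (p - 2)) := by
      rw [← mul_assoc, ← hQ, ← ha]; exact R'.card_subgroup_dvd_card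
    exact (Nat.Coprime.pow_left a ((Nat.coprime_primes hr hp).2 hrp)).dvd_of_dvd_mul_left h1
  have hlt : r ^ a < p := by
    by_cases h1 : r ∣ p - 1
    · have h2 : ¬ r ∣ p - 2 := fun h2 => hr.ne_one (Nat.dvd_one.1 (by
        have := Nat.dvd_sub h1 h2
        rwa [show p - 1 - (p - 2) = 1 by omega] at this))
      have := Nat.le_of_dvd (by omega)
        ((Nat.Coprime.pow_left a (hr.coprime_iff_not_dvd.2 h2)).dvd_of_dvd_mul_right hdvd)
      omega
    · have := Nat.le_of_dvd (by omega)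
        ((Nat.Coprime.pow_left a (hr.coprime_iff_not_dvd.2 h1)).dvd_of_dvd_mul_left hdvd)
      omega
  have h2 : 2 ≤ r ^ a := le_trans hr.two_le (Nat.le_self_pow (by omega) _)
  rw [Nat.ModEq, ha, Nat.mod_eq_of_lt hlt, Nat.mod_eq_of_lt hp.one_lt] at hmod
  omega

include hP hC h5 hQ in
theorem commutator_eq_top
    (hN : Nat.card (Subgroup.normalizer ((P : Subgroup Q) : Set Q)) = 2 * p) : commutator Q = ⊤ := by
  classical
  have hp : p.Prime := Fact.out
  have hbig : 2 * p < Nat.card Q := by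
    rw [hQ]
    have h1 : 2 * 2 ≤ (p - 1) * (p - 2) := Nat.mul_le_mul (by omega) (by omega)
    calc 2 * p < 4 * p := by omega
      _ = p * (2 * 2) := by ring
      _ ≤ p * ((p - 1) * (p - 2)) := Nat.mul_le_mul_left _ h1
      _ = p * (p - 1) * (p - 2) := by ring
  have hM0 : commutator Q ≠ ⊥ := by
    intro h0
    have hcomm : ∀ a b : Q, a * b = b * a := fun a b => by
      have h1 : ⁅a, b⁆ ∈ commutator Q := by
        rw [commutator_def]
        exact Subgroup.commutator_mem_commutator (Subgroup.mem_top a) (Subgroup.mem_top b)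
      rw [h0, Subgroup.mem_bot] at h1
      exact commutatorElement_eq_one_iff_mul_comm.1 h1
    have h1 : Subgroup.centralizer ((P : Subgroup Q) : Set Q) = ⊤ :=
      top_le_iff.1 fun a _ => Subgroup.mem_centralizer_iff.2 fun z _ => hcomm z a
    rw [h1, Subgroup.card_top] at hC
    omega
  have hpM : p ∣ Nat.card (commutator Q) := by
    by_contra h
    exact hM0 (eq_bot_of_not_dvd P hP hC h5 hQ _ h)
  have hPM : (P : Subgroup Q) ≤ commutator Q := by
    obtain ⟨⟨x, hxM⟩, hxo⟩ := exists_prime_orderOf_dvd_card' p hpM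
    rw [Subgroup.orderOf_mk] at hxo
    obtain ⟨R, hR⟩ := (IsPGroup.of_card (n := 1) (by rw [Nat.card_zpowers, hxo, pow_one]) :
      IsPGroup p (Subgroup.zpowers x)).exists_le_sylow
    have hRx : Subgroup.zpowers x = (R : Subgroup Q) :=
      Subgroup.eq_of_le_of_card_ge hR (by
        rw [R.card_eq_multiplicity, ← P.card_eq_multiplicity, hP, Nat.card_zpowers, hxo])
    obtain ⟨a, ha⟩ := MulAction.exists_smul_eq Q R P
    rw [← ha]
    rintro _ ⟨y, hy, rfl⟩
    exact (inferInstance : (commutator Q).Normal).conj_mem y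
      ((Subgroup.zpowers_le.2 hxM) (hRx ▸ hy)) a
  set M := commutator Q with hMdef
  set PM := P.subtype hPM with hPMdef
  set N := Subgroup.normalizer ((P : Subgroup Q) : Set Q) with hNdef
  have hidx : M.index = M.relIndex N := by
    have h1 := Sylow.normalizer_sup_eq_top' P hPM
    rw [← Subgroup.relIndex_sup_right (H := N), hNdef, hMdef, ← hNdef]
    rw [show N ⊔ M = ⊤ from h1, Subgroup.relIndex_top_right]
  by_contra hne
  have hrel : M.relIndex N ∣ 2 := by
    have h1 : M.relIndex N ∣ (P : Subgroup Q).relIndex N :=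
      Subgroup.relIndex_dvd_of_le_left _ hPM
    have h2 : Nat.card ((P : Subgroup Q).subgroupOf N) * ((P : Subgroup Q).subgroupOf N).index =
      Nat.card N := Subgroup.card_mul_index _
    rw [Nat.card_congr (Subgroup.subgroupOfEquivOfLe Subgroup.le_normalizer).toEquiv, hP, hN,
      ← Subgroup.relIndex, mul_comm 2 p] at h2
    rwa [Nat.eq_of_mul_eq_mul_left hp.pos h2] at h1
  have hM2 : M.relIndex N = 2 := (Nat.prime_two.eq_one_or_self_of_dvd _ hrel).resolve_left
    fun h => hne (Subgroup.index_eq_one.1 (hidx.trans h))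
  have hinf : Nat.card (M.subgroupOf N) = p := by
    have h2 := Subgroup.card_mul_index (M.subgroupOf N)
    rw [← Subgroup.relIndex, hM2, hN] at h2
    omega
  have hPN : (P : Subgroup Q).subgroupOf N = M.subgroupOf N :=
    Subgroup.eq_of_le_of_card_ge (fun x hx => hPM hx) (by
      rw [hinf, Nat.card_congr (Subgroup.subgroupOfEquivOfLe Subgroup.le_normalizer).toEquiv, hP])
  have hNC : Subgroup.normalizer (((PM : Subgroup M)) : Set M) ≤
      Subgroup.centralizer (((PM : Subgroup M)) : Set M) := by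
    intro x hx
    have hxN : (x : Q) ∈ N := by
      rw [show Subgroup.normalizer (((PM : Subgroup M)) : Set M) = N.subgroupOf M from
        (Subgroup.subgroupOf_normalizer_eq hPM).symm] at hx
      exact hx
    have hxP : (x : Q) ∈ (P : Subgroup Q) := by
      have h1 : (⟨(x : Q), hxN⟩ : N) ∈ M.subgroupOf N := x.2
      rw [← hPN] at h1
      exact h1
    haveI : IsCyclic (P : Subgroup Q) := isCyclic_of_prime_card hP
    letI : CommGroup (P : Subgroup Q) := IsCyclic.commGroup
    refine Subgroup.mem_centralizer_iff.2 fun y hy => Subtype.ext ?_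
    have h := congrArg Subtype.val (mul_comm (⟨(y : Q), hy⟩ : (P : Subgroup Q)) ⟨(x : Q), hxP⟩)
    exact h
  set L := (MonoidHom.transferSylow PM hNC).ker with hLdef
  have hLp : ¬ p ∣ Nat.card L := MonoidHom.not_dvd_card_ker_transferSylow PM hNC
  have hPMc : Nat.card (PM : Subgroup M) = p := by
    refine Eq.trans ?_ hP; exact Nat.card_congr (Subgroup.subgroupOfEquivOfLe hPM).toEquiv
  have hLi : L.index = p := by
    rw [hLdef, (MonoidHom.ker_transferSylow_isComplement' PM hNC).symm.index_eq_card, hPMc]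
  haveI : (L.map M.subtype).Normal := ⟨by
    rintro _ ⟨y, hy, rfl⟩ a
    refine ⟨⟨a * y * a⁻¹, (inferInstance : M.Normal).conj_mem _ y.2 a⟩, ?_, rfl⟩
    refine Blocks.mem_of_regular hp ⟨1, by rw [hLi, pow_one]⟩ ?_
    rw [← Subgroup.orderOf_coe]
    show ¬ p ∣ orderOf (MulAut.conj a (y : Q))
    rw [MulEquiv.orderOf_eq, Subgroup.orderOf_coe]
    exact fun h => hLp (h.trans (L.orderOf_dvd_natCard hy))⟩
  have hLmap := eq_bot_of_not_dvd P hP hC h5 hQ (L.map M.subtype)
    (by rwa [Subgroup.card_map_of_injective M.subtype_injective])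
  rw [Subgroup.map_eq_bot_iff_of_injective _ M.subtype_injective] at hLmap
  rw [hLmap, Subgroup.index_bot] at hLi
  have hMP : (P : Subgroup Q) = M := Subgroup.eq_of_le_of_card_ge hPM (by rw [hLi, hP])
  have hnorm : (P : Subgroup Q).Normal := hMP ▸ inferInstance
  have : N = ⊤ := @Subgroup.normalizer_eq_top _ _ _ hnorm
  rw [this, Subgroup.card_top] at hN
  omega

include hP hC h5 hQ in
/-- **The group is `SL₂(2^m)`.** -/
theorem exists_sl_two (hN : Nat.card (Subgroup.normalizer ((P : Subgroup Q) : Set Q)) = 2 * p) :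
    ∃ (m : ℕ) (F : Type) (_ : Field F) (_ : Fintype F), p = 2 ^ m + 1 ∧ Fintype.card F = 2 ^ m ∧
      Nonempty (Q ≃* Matrix.SpecialLinearGroup (Fin 2) F) := by
  classical
  have hp : p.Prime := Fact.out
  have hcore : Cfsg.pPrimeCore p Q = ⊥ := by
    unfold Cfsg.pPrimeCore
    refine eq_bot_iff.2 (sSup_le ?_)
    rintro L ⟨hLn, hL⟩
    haveI := hLn
    refine le_of_eq (eq_bot_of_not_dvd P hP hC h5 hQ L fun h => ?_)
    exact hp.ne_one (Nat.eq_one_of_dvd_coprimes hL h dvd_rfl)
  obtain ⟨h, hh⟩ : ∃ h, p = 2 * h + 1 := hp.eq_two_or_odd'.resolve_left (by omega)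
  have hh3 : 3 ≤ h := by
    have h6 : p ≠ 6 := fun e => absurd hp (by rw [e]; norm_num)
    omega
  have hn : Nat.card (Sylow p Q) = 1 + (h - 1) * p := by
    have h1 : Nat.card (Sylow p Q) * (2 * p) = Nat.card Q := by
      rw [P.card_eq_index_normalizer, ← hN, mul_comm]; exact Subgroup.card_mul_index _
    rw [hQ] at h1
    obtain ⟨t, rfl⟩ : ∃ t, h = t + 1 := ⟨h - 1, by omega⟩
    rw [Nat.add_sub_cancel]
    subst hh
    rw [show 2 * (t + 1) + 1 - 1 = 2 * (t + 1) by omega,
      show 2 * (t + 1) + 1 - 2 = 2 * t + 1 by omega] at h1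
    refine Nat.eq_of_mul_eq_mul_right (show 0 < 2 * (2 * (t + 1) + 1) by omega) (h1.trans ?_)
    ring
  rcases Cfsg.Agent.S4700.result (commutator_eq_top P hP hC h5 hQ hN) p P hP (h - 1) hn with
    ⟨F, iF, iFt, hF, hp3, ⟨e⟩⟩ | ⟨m, F, iF, iFt, hF, hpm, hp3, ⟨e⟩⟩ | ⟨k, u, hk, hu, he⟩
  · exfalso
    have h1 := Classical.SmallIso.natCard_pslTwo F
    rw [Classical.GL2.natCard_SL_two, hF, ← Nat.card_congr e.toEquiv,
      Nat.card_congr ((QuotientGroup.quotientMulEquivOfEq hcore).trans QuotientGroup.quotientBot).toEquiv,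
      hQ] at h1
    have hg : Nat.gcd 2 (p - 1) = 2 := Nat.gcd_eq_left (by omega)
    rw [hg, show 2 * (p * (p - 1) * (p - 2)) = p * (p - 1) * (2 * (p - 2)) by ring] at h1
    have h2 : p * (p - 1) * (2 * (p - 2)) = p * (p - 1) * (p + 1) := by rw [h1]; ring
    have := Nat.eq_of_mul_eq_mul_left (Nat.mul_pos (by omega) (by omega)) h2
    omega
  · exact ⟨m, F, iF, iFt, hpm, hF,
      ⟨(((QuotientGroup.quotientMulEquivOfEq hcore).trans QuotientGroup.quotientBot).symm).trans e⟩⟩
  · exfalso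
    have h1 : (h - 1) * (u + 1) < u * p := by
      calc (h - 1) * (u + 1) ≤ (h - 1) * (2 * u) := Nat.mul_le_mul_left _ (by omega)
        _ = (2 * (h - 1)) * u := by ring
        _ < p * u := Nat.mul_lt_mul_of_pos_right (by omega) hu
        _ = u * p := mul_comm _ _
    have h2 : u * p ≤ k * u * p := Nat.mul_le_mul_right _ (Nat.le_mul_of_pos_left u hk)
    omega

end Cfsg.Agent.PrimeBlock.SubTwo
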