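import Cfsg.Agent.Lib.PrimeBlock.SubTwo.Count
import Cfsg.Agent.Lib.PrimeBlock.SubTwo.Ident
import Cfsg.Agent.Lib.Transfer.CenterInf
import Cfsg.Agent.Lib.Characters.Normal

/-!
# A faithful character of degree `p - 2` and a Sylow subgroup of order `p`

The kernel `H` of the determinant has odd centre and the same restriction; counting in `H` gives
`|G / Z(G)| = p (p - 1) (p - 2)`, and the extension by the centre splits by transfer.
-/

set_option autoImplicit false
set_option linter.style.haveILetI false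
set_option linter.unusedSectionVars false

namespace Cfsg.Agent.PrimeBlock.SubTwo

open Cfsg.Agent.Characters Cfsg.Agent.Blocks
open scoped ComplexConjugate commutatorElement

universe u

/-- A subgroup containing the Sylow subgroup has odd centre and an irreducible restriction, when it
is the kernel of the determinant. -/
theorem exists_det_kernel {G : Type u} [Group G] [Finite G] {p : ℕ} [Fact p.Prime] {P : Sylow p G}
    {χ : Cfsg.IrrCharacter G} (S : Setting P χ)
    (hfaith : ∀ a, (χ : G → ℂ) a = (χ : G → ℂ) 1 → a = 1)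
    (hdeg : (χ : G → ℂ) 1 = ((p - 2 : ℕ) : ℂ)) :
    ∃ H : Subgroup G, H.Normal ∧ (P : Subgroup G) ≤ H ∧ commutator G ≤ H ∧
      (∀ k ∈ Subgroup.center G, k ∈ H → k ^ (p - 2) = 1) ∧
      Cfsg.IsIrrCharacter H (fun a : H => (χ : G → ℂ) a) := by
  classical
  have hp : p.Prime := Fact.out
  have h5 := S.two_lt
  obtain ⟨n, ρ, hρ, hρe⟩ := χ.2
  have hinj : Function.Injective ρ := fun x y e => by
    refine inv_mul_eq_one.1 (hfaith _ ?_)
    rw [← hρe]
    show LinearMap.trace ℂ _ (ρ (x⁻¹ * y)) = LinearMap.trace ℂ _ (ρ 1)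
    rw [map_mul, ← e, ← map_mul, inv_mul_cancel]
  have hfin : Module.finrank ℂ (Fin n → ℂ) = p - 2 := by
    have h1 : (Module.finrank ℂ (Fin n → ℂ) : ℂ) = ((p - 2 : ℕ) : ℂ) := by
      rw [← hdeg, ← hρe, ρ.char_one]
    exact_mod_cast h1
  let δ : G →* ℂ := (LinearMap.det : ((Fin n → ℂ) →ₗ[ℂ] (Fin n → ℂ)) →* ℂ).comp ρ
  set H := δ.toHomUnits.ker with hH
  have hmem : ∀ a : G, a ∈ H ↔ δ a = 1 := fun a => by
    rw [hH, MonoidHom.mem_ker, Units.ext_iff]; simp
  have hg : S.g ∈ H := by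
    rw [hmem]
    obtain ⟨m, hm⟩ := S.invert
    have h1 : δ S.g⁻¹ = δ S.g := by
      rw [← hm, map_mul, map_mul, mul_comm (δ m), mul_assoc, ← map_mul, mul_inv_cancel, map_one, mul_one]
    have h2 : δ S.g ^ 2 = 1 := by
      rw [pow_two]
      nth_rw 2 [← h1]
      rw [← map_mul, mul_inv_cancel, map_one]
    have h3 : δ S.g ^ p = 1 := by
      rw [← map_pow, show S.g ^ p = 1 by simpa [S.order] using pow_orderOf_eq_one S.g, map_one]
    obtain ⟨t, ht⟩ := hp.eq_two_or_odd'.resolve_left (by omega)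
    rwa [show δ S.g ^ p = δ S.g ^ (2 * t + 1) from congrArg _ ht, pow_succ, pow_mul, h2, one_pow,
      one_mul] at h3
  have hPH : (P : Subgroup G) ≤ H := by rw [← S.gen, Subgroup.zpowers_le]; exact hg
  refine ⟨H, inferInstance, hPH, Abelianization.commutator_subset_ker _, fun k hk hkH => ?_, ?_⟩
  · obtain ⟨c, hc1, hc⟩ := central_mul χ.2 hk
    have hck := hc 1
    rw [one_mul] at hck
    obtain ⟨ω, hω⟩ := rep_apply_eq_smul_of_norm_eq ρ k (by
      rw [hρe, hck, norm_mul, hc1, one_mul, hdeg, hfin, Complex.norm_natCast])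
    have h1 : ω ^ (p - 2) = 1 := by
      have h2 : LinearMap.det (ρ k) = 1 := (hmem k).1 hkH
      rwa [hω, LinearMap.det_smul, LinearMap.det_id, mul_one, hfin] at h2
    refine hinj ?_
    rw [map_pow, hω, map_one]
    refine LinearMap.ext fun v => ?_
    have h3 : ∀ m : ℕ, ((ω • (LinearMap.id : (Fin n → ℂ) →ₗ[ℂ] (Fin n → ℂ))) ^ m) v = ω ^ m • v := by
      intro m
      induction m with
      | zero => simp
      | succ m ih =>
        rw [pow_succ', Module.End.mul_apply, ih, LinearMap.smul_apply, LinearMap.id_apply, smul_smul,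
          ← pow_succ']
    rw [h3, h1, one_smul, Module.End.one_apply]
  -- irreducibility
  haveI := Fintype.ofFinite G
  haveI := Fintype.ofFinite H
  haveI := Fintype.ofFinite (Cfsg.IrrCharacter H)
  haveI hHn : H.Normal := inferInstance
  set F : H → ℂ := fun a => (χ : G → ℂ) a with hF
  have hFc : Cfsg.IsCharacter H F := isCharacter_restrict H (irr_isCharacter χ)
  obtain ⟨m, hm⟩ := char_eq_sum_nat hFc
  set gH : H := ⟨S.g, hg⟩
  set R : Subgroup H := Subgroup.zpowers gH
  haveI := Fintype.ofFinite R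
  have hRcard : Nat.card R = p := by rw [Nat.card_zpowers, Subgroup.orderOf_mk, S.order]
  have hbij : Function.Bijective fun i : ZMod p => (⟨gH ^ i.val, pow_mem (Subgroup.mem_zpowers gH) _⟩ : R) := by
    refine (Nat.bijective_iff_injective_and_card _).2 ⟨fun i j e => ?_, by rw [hRcard, Nat.card_zmod]⟩
    have h1 : S.g ^ i.val = S.g ^ j.val := congrArg (fun x : R => ((x : H) : G)) e
    have h2 := natCast_eq_of_pow S.order h1
    rwa [ZMod.natCast_rightInverse i, ZMod.natCast_rightInverse j] at h2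
  have hsumR : ∀ f : H → ℂ, ∑ x : R, f x = ∑ i : ZMod p, f (gH ^ i.val) := fun f =>
    (hbij.sum_comp fun x : R => f x).symm
  -- every constituent has the same multiplicity of the trivial character on `R`
  have ht : ∀ ψ : Cfsg.IrrCharacter H, ∃ t : ℕ, ∑ i : ZMod p, (ψ : H → ℂ) (gH ^ i.val) = (p : ℂ) * t := by
    intro ψ
    obtain ⟨t, ht⟩ := classInner_char_nat (isCharacter_restrict R (irr_isCharacter ψ))
      (isCharacter_one (G := R))
    refine ⟨t, ?_⟩
    rw [← hsumR, ← ht, classInner_def, hRcard, ← mul_assoc,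
      mul_inv_cancel₀ (Nat.cast_ne_zero.2 hp.ne_zero), one_mul]
    simp
  choose t ht using ht
  have htot : ∑ ψ : Cfsg.IrrCharacter H, m ψ * t ψ = 1 := by
    have h1 : ∑ i : ZMod p, F (gH ^ i.val) = (p : ℂ) := by
      obtain ⟨j, hj⟩ := S.val_g
      rw [← sum_units_eq (fun i => F (gH ^ i.val)), ZMod.val_zero, pow_zero]
      show (χ : G → ℂ) (1 : G) + ∑ i : (ZMod p)ˣ, (χ : G → ℂ) (S.g ^ (i : ZMod p).val) = _
      rw [Finset.sum_congr rfl fun (i : (ZMod p)ˣ) _ => hj (i : ZMod p) i.ne_zero, Finset.sum_neg_distrib,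
        sum_cs S.prim, if_neg j.ne_zero, hdeg, Nat.cast_sub (by omega)]
      push_cast; ring
    have h2 : (p : ℂ) * ((∑ ψ : Cfsg.IrrCharacter H, m ψ * t ψ : ℕ) : ℂ) = (p : ℂ) * ((1 : ℕ) : ℂ) := by
      rw [Nat.cast_one, mul_one]
      conv_rhs => rw [← h1, hm]
      simp only [Finset.sum_apply, Pi.smul_apply, smul_eq_mul]
      rw [Finset.sum_comm]
      push_cast
      rw [Finset.mul_sum]
      exact Finset.sum_congr rfl fun ψ _ => by rw [← Finset.mul_sum, ht ψ]; ring
    exact_mod_cast mul_left_cancel₀ (Nat.cast_ne_zero.2 hp.ne_zero) h2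
  have hconj : ∀ ψ ψ' : Cfsg.IrrCharacter H, m ψ ≠ 0 → m ψ' ≠ 0 → t ψ' = t ψ := by
    intro ψ ψ' hψ hψ'
    have hne : ∀ ψ, m ψ ≠ 0 → Cfsg.classInner (fun a : H => (χ : G → ℂ) a) (ψ : H → ℂ) ≠ 0 := by
      intro ψ hψ
      show Cfsg.classInner F _ ≠ 0
      rw [hm, classInner_sum_smul_irr (c := fun ξ => (m ξ : ℂ)) Finset.univ ψ,
        if_pos (Finset.mem_univ _)]
      exact Nat.cast_ne_zero.2 hψ
    obtain ⟨a, ha⟩ := exists_conjugate_of_constituents H χ.2 ψ.2 ψ'.2 (hne ψ hψ) (hne ψ' hψ')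
    have hsup := Sylow.normalizer_sup_eq_top' P hPH
    have hamem : a ∈ H ⊔ Subgroup.normalizer ((P : Subgroup G) : Set G) := by
      rw [sup_comm, show Subgroup.normalizer ((P : Subgroup G) : Set G) ⊔ H = ⊤ from hsup]; trivial
    obtain ⟨h₀, hh₀, n₀, hn₀, rfl⟩ := Subgroup.mem_sup_of_normal_left.1 hamem
    obtain ⟨v, hv⟩ := S.weight n₀ hn₀
    have key : ∑ i : ZMod p, (ψ' : H → ℂ) (gH ^ i.val) = ∑ i : ZMod p, (ψ : H → ℂ) (gH ^ i.val) := by
      refine Fintype.sum_equiv (Equiv.mulLeft₀ (v : ZMod p) v.ne_zero) _ _ fun i => ?_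
      show _ = (ψ : H → ℂ) (gH ^ ((v : ZMod p) * i).val)
      rw [ha, ← irr_isClassFunction ψ (gH ^ ((v : ZMod p) * i).val) ⟨h₀, hh₀⟩]
      refine congrArg (ψ : H → ℂ) (Subtype.ext ?_)
      show h₀ * n₀ * S.g ^ i.val * (h₀ * n₀)⁻¹ = h₀ * S.g ^ ((v : ZMod p) * i).val * h₀⁻¹
      have h1 : n₀ * S.g ^ i.val * n₀⁻¹ = S.g ^ ((v : ZMod p) * i).val := by
        rw [← conj_pow, hv, ← pow_mul]
        exact pow_eq_of_natCast S.order (by simp [Nat.cast_mul, ZMod.natCast_rightInverse _])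
      rw [← h1]; group
    rw [ht, ht] at key
    exact_mod_cast mul_left_cancel₀ (Nat.cast_ne_zero.2 hp.ne_zero) key
  obtain ⟨ψ₀, -, hψ₀⟩ := Finset.exists_ne_zero_of_sum_ne_zero
    (show ∑ ψ : Cfsg.IrrCharacter H, m ψ * t ψ ≠ 0 by rw [htot]; exact one_ne_zero)
  have hm0 : m ψ₀ ≠ 0 := fun e => hψ₀ (by rw [e, zero_mul])
  have hrest : m ψ₀ * t ψ₀ + ∑ ψ ∈ Finset.univ.erase ψ₀, m ψ * t ψ = 1 := by
    rw [Finset.add_sum_erase _ (fun ψ => m ψ * t ψ) (Finset.mem_univ ψ₀)]; exact htot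
  have hone : m ψ₀ = 1 :=
    Nat.eq_one_of_mul_eq_one_right (show m ψ₀ * t ψ₀ = 1 by omega)
  have hFψ : F = (ψ₀ : H → ℂ) := by
    rw [hm, Finset.sum_eq_single ψ₀ (fun ψ _ hne => ?_) (by simp), hone, Nat.cast_one, one_smul]
    by_contra h0
    have hmψ : m ψ ≠ 0 := fun e => h0 (by rw [e, Nat.cast_zero, zero_smul])
    have h1 : m ψ * t ψ = 0 := by
      have := Finset.single_le_sum (f := fun ψ => m ψ * t ψ) (fun _ _ => Nat.zero_le _)
        (Finset.mem_erase.2 ⟨hne, Finset.mem_univ ψ⟩)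
      omega
    rw [hconj ψ₀ ψ hm0 hmψ] at h1
    rcases Nat.mul_eq_zero.1 h1 with h | h
    · exact hmψ h
    · exact hψ₀ (by rw [h, mul_zero])
  exact hFψ ▸ ψ₀.2

theorem card_sylow_centralizer_image {G : Type u} [Group G] [Finite G] {p : ℕ} [Fact p.Prime]
    {P : Sylow p G} {χ : Cfsg.IrrCharacter G} (S : Setting P χ) {a : G} {i : ZMod p} {k : G}
    (hk : k ∈ Subgroup.center G) (h : a * S.g * a⁻¹ = S.g ^ i.val * k) : k = 1 := by
  have hp : p.Prime := Fact.out
  have h1 : (S.g ^ i.val * k) ^ p = 1 := by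
    rw [← h, conj_pow, show S.g ^ p = 1 by simpa [S.order] using pow_orderOf_eq_one S.g]; group
  rw [(show Commute (S.g ^ i.val) k from Subgroup.mem_center_iff.1 hk (S.g ^ i.val)).mul_pow, ← pow_mul,
    mul_comm, pow_mul, show S.g ^ p = 1 by simpa [S.order] using pow_orderOf_eq_one S.g, one_pow,
    one_mul] at h1
  rcases hp.eq_one_or_self_of_dvd _ (orderOf_dvd_of_pow_eq_one h1) with h2 | h2
  · exact orderOf_eq_one_iff.1 h2
  · exact absurd h2.symm.dvd (S.regular_center k hk)

theorem card_eq_general {G : Type u} [Group G] [Finite G] {p : ℕ} [Fact p.Prime] (h5 : 5 < p)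
    {P : Sylow p G} (hP : Nat.card (P : Subgroup G) = p) (hnn : ¬ (P : Subgroup G).Normal)
    {χ : Cfsg.IrrCharacter G} (S : Setting P χ)
    (hfaith : ∀ a, (χ : G → ℂ) a = (χ : G → ℂ) 1 → a = 1)
    (hdeg : (χ : G → ℂ) 1 = ((p - 2 : ℕ) : ℂ)) :
    Nat.card G = p * (p - 1) * (p - 2) * Nat.card (Subgroup.center G) ∧
      ∀ k ∈ Subgroup.center G, k ∈ commutator G → k ^ (p - 2) = 1 := by
  classical
  have hp : p.Prime := Fact.out
  obtain ⟨H, hHn, hPH, hcH, hdet, hirr⟩ := exists_det_kernel S hfaith hdeg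
  refine ⟨?_, fun k hk hkc => hdet k hk (hcH hkc)⟩
  haveI := hHn
  set PH : Sylow p H := P.subtype hPH
  set χH : Cfsg.IrrCharacter H := ⟨_, hirr⟩
  have hfH : ∀ a : H, (χH : H → ℂ) a = (χH : H → ℂ) 1 → a = 1 := fun a ha =>
    Subtype.ext (hfaith a ha)
  have hPHc : Nat.card (PH : Subgroup H) = p := by
    refine Eq.trans ?_ hP
    exact Nat.card_congr (Subgroup.subgroupOfEquivOfLe hPH).toEquiv
  have hnnH : ¬ (PH : Subgroup H).Normal := by
    intro hn
    refine hnn ⟨fun x hx a => ?_⟩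
    have hQ : IsPGroup p (Subgroup.zpowers (⟨a * x * a⁻¹, hHn.conj_mem x (hPH hx) a⟩ : H)) := by
      obtain ⟨k, hk⟩ := P.2 ⟨x, hx⟩
      have hk' : x ^ p ^ k = 1 := congrArg Subtype.val hk
      obtain ⟨j, -, hj⟩ := (Nat.dvd_prime_pow hp).1 (orderOf_dvd_of_pow_eq_one
        (show (⟨a * x * a⁻¹, hHn.conj_mem x (hPH hx) a⟩ : H) ^ p ^ k = 1 from Subtype.ext (by
          show (a * x * a⁻¹) ^ p ^ k = 1
          rw [conj_pow, hk']; group)))
      exact IsPGroup.of_card (n := j) (by rw [Nat.card_zpowers, hj])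
    obtain ⟨R, hR⟩ := hQ.exists_le_sylow
    letI := Sylow.unique_of_normal PH hn
    rw [Subsingleton.elim R PH] at hR
    exact hR (Subgroup.mem_zpowers _)
  obtain ⟨SH⟩ := exists_setting h5 PH hPHc hnnH χH hfH hdeg
  -- the centre of `H`
  have hZH : Subgroup.center H = (Subgroup.center G).subgroupOf H := by
    refine le_antisymm (fun k hk => ?_) fun k hk => ?_
    · rw [Subgroup.mem_subgroupOf]
      have hkC : (k : G) ∈ Subgroup.centralizer ((P : Subgroup G) : Set G) :=
        Subgroup.mem_centralizer_iff.2 fun x hx =>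
          congrArg Subtype.val (Subgroup.mem_center_iff.1 hk ⟨x, hPH hx⟩)
      obtain ⟨i, z, hz, e⟩ := S.decomp _ hkC
      rcases eq_or_ne i 0 with rfl | hi
      · rw [ZMod.val_zero, pow_zero, one_mul] at e
        exact e ▸ hz
      · refine absurd ?_ (SH.regular_center k hk)
        rw [← Subgroup.orderOf_coe, e]
        exact S.singular i hi z hz
    · exact Subgroup.mem_center_iff.2 fun a => Subtype.ext
        (Subgroup.mem_center_iff.1 (Subgroup.mem_subgroupOf.1 hk) a)
  have hoddH : Odd (Nat.card (Subgroup.center H)) := by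
    rw [Nat.odd_iff]
    by_contra h2
    haveI : Fact (Nat.Prime 2) := ⟨Nat.prime_two⟩
    obtain ⟨⟨k, hk⟩, hko⟩ := exists_prime_orderOf_dvd_card' 2
      (show 2 ∣ Nat.card (Subgroup.center H) by omega)
    rw [Subgroup.orderOf_mk, ← Subgroup.orderOf_coe] at hko
    rw [hZH, Subgroup.mem_subgroupOf] at hk
    have h3 := orderOf_dvd_of_pow_eq_one (hdet k hk k.2)
    rw [hko] at h3
    obtain ⟨t, ht⟩ := hp.eq_two_or_odd'.resolve_left (by omega)
    omega
  haveI := Fintype.ofFinite H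
  obtain ⟨W, hW⟩ := exists_twist H p (by omega)
  have hH := card_eq SH hW hoddH hfH hdeg
  -- Frattini
  set N := Subgroup.normalizer ((P : Subgroup G) : Set G)
  have hidx : H.index = H.relIndex N := by
    have h1 : N ⊔ H = ⊤ := Sylow.normalizer_sup_eq_top' P hPH
    rw [← Subgroup.relIndex_sup_right (H := N), h1, Subgroup.relIndex_top_right]
  have hNH : Nat.card (H.subgroupOf N) = 2 * p * Nat.card (Subgroup.center H) := by
    rw [← SH.card_normalizer, show Subgroup.normalizer ((PH : Subgroup H) : Set H) = N.subgroupOf H from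
      (Subgroup.subgroupOf_normalizer_eq hPH).symm]
    exact Nat.card_congr
      { toFun := fun x => ⟨⟨((x : N) : G), x.2⟩, (x : N).2⟩
        invFun := fun x => ⟨⟨((x : H) : G), x.2⟩, (x : H).2⟩
        left_inv := fun x => rfl
        right_inv := fun x => rfl }
  have h1 := Subgroup.card_mul_index (H.subgroupOf N)
  rw [← Subgroup.relIndex, ← hidx, hNH, S.card_normalizer, mul_assoc (2 * p)] at h1
  have h2 := Nat.eq_of_mul_eq_mul_left (by omega) h1
  rw [← Subgroup.card_mul_index H, hH, mul_assoc, h2]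

set_option maxHeartbeats 800000 in
/-- **Feit's theorem on faithful characters of degree `p - 2`.** -/
theorem main {G : Type u} [Group G] [Finite G] (p : ℕ) [Fact p.Prime] (h5 : 5 < p) (P : Sylow p G)
    (hP : Nat.card (P : Subgroup G) = p) (hnn : ¬ (P : Subgroup G).Normal)
    (χ : Cfsg.IrrCharacter G) (hfaith : ∀ a, (χ : G → ℂ) a = (χ : G → ℂ) 1 → a = 1)
    (hdeg : (χ : G → ℂ) 1 = ((p - 2 : ℕ) : ℂ)) :
    ∃ (a : ℕ) (F : Type) (_ : Field F) (_ : Fintype F), p = 2 ^ a + 1 ∧ Fintype.card F = 2 ^ a ∧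
      Nonempty (G ≃* Matrix.SpecialLinearGroup (Fin 2) F × Subgroup.center G) := by
  classical
  have hp : p.Prime := Fact.out
  obtain ⟨S⟩ := exists_setting h5 P hP hnn χ hfaith hdeg
  obtain ⟨hG, hdet⟩ := card_eq_general h5 hP hnn S hfaith hdeg
  set Z := Subgroup.center G with hZdef
  have hQc : Nat.card (G ⧸ Z) = p * (p - 1) * (p - 2) := by
    have h := Subgroup.card_eq_card_quotient_mul_card_subgroup Z
    rw [hG] at h
    exact (Nat.eq_of_mul_eq_mul_right Nat.card_pos h).symm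
  set π := QuotientGroup.mk' Z
  have hπ : Function.Surjective π := QuotientGroup.mk'_surjective Z
  set PQ : Sylow p (G ⧸ Z) := P.mapSurjective hπ
  have hPQe : (PQ : Subgroup (G ⧸ Z)) = Subgroup.zpowers (π S.g) := by
    show (P : Subgroup G).map π = _
    rw [← S.gen, MonoidHom.map_zpowers]
  have hπg : orderOf (π S.g) = p := by
    refine orderOf_eq_prime (by
      rw [← map_pow, show S.g ^ p = 1 by simpa [S.order] using pow_orderOf_eq_one S.g, map_one]) fun e => ?_
    refine S.regular_center S.g ((QuotientGroup.eq_one_iff _).1 e) ?_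
    rw [S.order]
  have hPQc : Nat.card (PQ : Subgroup (G ⧸ Z)) = p := by rw [hPQe, Nat.card_zpowers, hπg]
  have hconj : ∀ a : G, (π a * π S.g * (π a)⁻¹ ∈ (PQ : Subgroup (G ⧸ Z))) →
      ∃ i : ZMod p, a * S.g * a⁻¹ = S.g ^ i.val := by
    intro a ha
    rw [hPQe, ← mem_powers_iff_mem_zpowers] at ha
    obtain ⟨i, hi⟩ := ha
    simp only [← map_inv, ← map_mul, ← map_pow] at hi
    have hk : (S.g ^ (i : ZMod p).val)⁻¹ * (a * S.g * a⁻¹) ∈ Z := by
      rw [← pow_eq_of_natCast S.order (ZMod.natCast_rightInverse (i : ZMod p)).symm]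
      exact (QuotientGroup.eq.1 hi)
    refine ⟨i, ?_⟩
    have h1 := card_sylow_centralizer_image S (a := a) hk (i := (i : ZMod p)) (mul_inv_cancel_left _ _).symm
    rw [inv_mul_eq_one] at h1
    exact h1.symm
  have hCQ : Nat.card (Subgroup.centralizer ((PQ : Subgroup (G ⧸ Z)) : Set (G ⧸ Z))) = p := by
    refine Eq.trans ?_ hPQc
    congr 1
    refine congrArg _ (le_antisymm (fun x hx => ?_) ?_)
    · obtain ⟨a, rfl⟩ := hπ x
      have h1 := Subgroup.mem_centralizer_iff.1 hx (π S.g) (by rw [hPQe]; exact Subgroup.mem_zpowers _)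
      obtain ⟨i, hi⟩ := hconj a (by
        rw [← h1, mul_inv_cancel_right, hPQe]; exact Subgroup.mem_zpowers _)
      have h2 : π (a * S.g * a⁻¹) = π S.g := by
        rw [map_mul, map_mul, map_inv, ← h1, mul_inv_cancel_right]
      rw [hi, map_pow] at h2
      have h3 : i = 1 := by
        have h4 := natCast_eq_of_pow (g := π S.g) hπg (h2.trans (pow_one _).symm)
        rwa [ZMod.natCast_rightInverse i, Nat.cast_one] at h4
      rw [h3, ZMod.val_one, pow_one, mul_inv_eq_iff_eq_mul] at hi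
      obtain ⟨j, k, hk, e⟩ := S.decomp a (by
        rw [← S.gen]
        exact (mem_centralizer_zpowers.trans Subgroup.mem_centralizer_singleton_iff).2 hi)
      rw [e, map_mul, show π k = 1 from (QuotientGroup.eq_one_iff k).2 hk, mul_one, map_pow, hPQe]
      exact pow_mem (Subgroup.mem_zpowers _) _
    · haveI : IsCyclic (PQ : Subgroup (G ⧸ Z)) := isCyclic_of_prime_card hPQc
      letI : CommGroup (PQ : Subgroup (G ⧸ Z)) := IsCyclic.commGroup
      intro x hx
      refine Subgroup.mem_centralizer_iff.2 fun y hy => ?_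
      exact congrArg Subtype.val (mul_comm (⟨y, hy⟩ : (PQ : Subgroup (G ⧸ Z))) ⟨x, hx⟩)
  have hNQ : Nat.card (Subgroup.normalizer ((PQ : Subgroup (G ⧸ Z)) : Set (G ⧸ Z))) = 2 * p := by
    have hmap : Subgroup.normalizer ((PQ : Subgroup (G ⧸ Z)) : Set (G ⧸ Z)) =
        (Subgroup.normalizer ((P : Subgroup G) : Set G)).map π := by
      refine le_antisymm (fun x hx => ?_) (Subgroup.le_normalizer_map π)
      obtain ⟨a, rfl⟩ := hπ x
      obtain ⟨i, hi⟩ := hconj a ((Subgroup.mem_normalizer_iff.1 hx _).1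
        (by rw [hPQe]; exact Subgroup.mem_zpowers _))
      refine ⟨a, Sylow.smul_eq_iff_mem_normalizer.1 (Sylow.ext ?_), rfl⟩
      show (P : Subgroup G).map (MulAut.conj a).toMonoidHom = (P : Subgroup G)
      refine Subgroup.eq_of_le_of_card_ge ?_ (le_of_eq
        (Subgroup.card_map_of_injective (MulAut.conj a).injective).symm)
      rw [← S.gen, MonoidHom.map_zpowers, Subgroup.zpowers_le]
      show a * S.g * a⁻¹ ∈ _
      rw [hi]
      exact pow_mem (Subgroup.mem_zpowers _) _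
    rw [hmap]
    have hle : Z ≤ Subgroup.normalizer ((P : Subgroup G) : Set G) :=
      (Subgroup.center_le_centralizer _).trans (Subgroup.centralizer_le_normalizer _)
    have h := Subgroup.card_mul_index (Z.subgroupOf (Subgroup.normalizer ((P : Subgroup G) : Set G)))
    rw [Nat.card_congr (Subgroup.subgroupOfEquivOfLe hle).toEquiv, S.card_normalizer,
      mul_comm (2 * p)] at h
    rw [← Nat.eq_of_mul_eq_mul_left Nat.card_pos h]
    set Ns := Subgroup.normalizer ((P : Subgroup G) : Set G)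
    have hker : (π.comp Ns.subtype).ker = Z.subgroupOf Ns := by
      ext x; exact QuotientGroup.eq_one_iff _
    rw [← hker, Subgroup.index_ker, MonoidHom.range_comp, Subgroup.range_subtype]
  obtain ⟨m, F, iF, iFt, hpm, hF, ⟨eQ⟩⟩ := exists_sl_two PQ hPQc hCQ h5 hQc hNQ
  refine ⟨m, F, iF, iFt, hpm, hF, ?_⟩
  -- the commutator subgroup covers the quotient and meets the centre trivially
  have hperf : commutator (G ⧸ Z) = ⊤ := commutator_eq_top PQ hPQc hCQ h5 hQc hNQ
  have hcover : ∀ x : G ⧸ Z, ∃ d ∈ commutator G, π d = x := by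
    intro x
    have hx : x ∈ (commutator G).map π := by
      rw [commutator_def, Subgroup.map_commutator, Subgroup.map_top_of_surjective π hπ, ← commutator_def,
        hperf]
      trivial
    obtain ⟨d, hd, rfl⟩ := hx
    exact ⟨d, hd, rfl⟩
  have hinf : commutator G ⊓ Z = ⊥ := by
    rw [eq_bot_iff]
    intro k hk
    rw [Subgroup.mem_bot]
    by_contra hk1
    obtain ⟨r, hr, hrk⟩ := Nat.exists_prime_and_dvd (fun h => hk1 (orderOf_eq_one_iff.1 h))
    set k' := k ^ (orderOf k / r)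
    have hk'o : orderOf k' = r := by
      rw [orderOf_pow, Nat.gcd_eq_right (Nat.div_dvd_of_dvd hrk),
        Nat.div_div_self hrk (orderOf_pos k).ne']
    have hk'c : k' ∈ commutator G := pow_mem hk.1 _
    have hk'Z : k' ∈ Z := pow_mem hk.2 _
    have hrp2 : r ∣ p - 2 := hk'o ▸ orderOf_dvd_of_pow_eq_one (hdet k' hk'Z hk'c)
    haveI := Fact.mk hr
    -- a cyclic Sylow subgroup of the quotient
    set q := 2 ^ m with hq
    have hqp : q = p - 1 := by omega
    let T : Fˣ →* Matrix.SpecialLinearGroup (Fin 2) F :=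
      { toFun := fun t => ⟨!![(t : F), 0; 0, ((t⁻¹ : Fˣ) : F)], by simp [Matrix.det_fin_two]⟩
        map_one' := Subtype.ext (by ext i j; fin_cases i <;> fin_cases j <;> simp)
        map_mul' := fun s t => Subtype.ext (by
          show !![((s * t : Fˣ) : F), 0; 0, (((s * t)⁻¹ : Fˣ) : F)] =
            !![(s : F), 0; 0, ((s⁻¹ : Fˣ) : F)] * !![(t : F), 0; 0, ((t⁻¹ : Fˣ) : F)]
          rw [Matrix.mul_fin_two]
          simp [mul_comm]) }
    have hT : Function.Injective T := fun s t e => Units.ext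
      (congrArg (fun M : Matrix.SpecialLinearGroup (Fin 2) F => M.1 0 0) e)
    set f : Fˣ →* G ⧸ Z := eQ.symm.toMonoidHom.comp T with hfdef
    have hf : Function.Injective f := eQ.symm.injective.comp hT
    obtain ⟨Rt⟩ := (inferInstance : Nonempty (Sylow r Fˣ))
    have hrp : ¬ r ∣ p := fun h => by
      have := (Nat.prime_dvd_prime_iff_eq hr hp).1 h
      subst this
      have := Nat.le_of_dvd (by omega) hrp2
      omega
    have hrp1 : ¬ r ∣ p - 1 := fun h => hr.ne_one (Nat.dvd_one.1 (by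
      have := Nat.dvd_sub h hrp2
      rwa [show p - 1 - (p - 2) = 1 by omega] at this))
    have hfac : (Nat.card (G ⧸ Z)).factorization r = (Nat.card Fˣ).factorization r := by
      rw [hQc, Nat.card_units, Nat.card_eq_fintype_card, hF,
        Nat.factorization_mul (Nat.mul_ne_zero hp.ne_zero (by omega)) (by omega),
        Nat.factorization_mul hp.ne_zero (by omega)]
      simp only [Finsupp.coe_add, Pi.add_apply, Nat.factorization_eq_zero_of_not_dvd hrp,
        Nat.factorization_eq_zero_of_not_dvd hrp1, zero_add]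
      congr 2
      omega
    set RQ₀ : Sylow r (G ⧸ Z) := Sylow.ofCard ((Rt : Subgroup Fˣ).map f)
      (by rw [Subgroup.card_map_of_injective hf, Rt.card_eq_multiplicity, hfac]) with hRQ₀
    haveI hcyc₀ : IsCyclic (RQ₀ : Subgroup (G ⧸ Z)) := by
      haveI : IsCyclic (Rt : Subgroup Fˣ) := Subgroup.isCyclic _
      show IsCyclic ((Rt : Subgroup Fˣ).map f)
      exact isCyclic_of_surjective _ ((Rt : Subgroup Fˣ).equivMapOfInjective f hf).surjective
    obtain ⟨R, hR⟩ := (IsPGroup.of_card (n := 1) (by rw [Nat.card_zpowers, hk'o, pow_one]) :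
      IsPGroup r (Subgroup.zpowers k')).exists_le_sylow
    have hmapcyc : IsCyclic ((R : Subgroup G).map π) := by
      show IsCyclic ((R.mapSurjective hπ : Sylow r (G ⧸ Z)) : Subgroup (G ⧸ Z))
      exact isCyclic_of_surjective _ (Sylow.equiv RQ₀ (R.mapSurjective hπ)).surjective
    set fR := (π.comp (R : Subgroup G).subtype).rangeRestrict with hfR
    haveI : IsCyclic (π.comp (R : Subgroup G).subtype).range := by
      rw [MonoidHom.range_comp, Subgroup.range_subtype]; exact hmapcyc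
    haveI : IsMulCommutative (R : Subgroup G) := by
      refine ⟨⟨(MonoidHom.isMulCommutative_of_isCyclic_of_ker_le_center fR fun x hx => ?_).1.1⟩⟩
      rw [hfR, MonoidHom.ker_rangeRestrict, MonoidHom.mem_ker] at hx
      exact Subgroup.mem_center_iff.2 fun y => Subtype.ext
        (Subgroup.mem_center_iff.1 ((QuotientGroup.eq_one_iff _).1 hx) y)
    have hHall : Nat.Coprime (Nat.card (R : Subgroup G)) (R : Subgroup G).index := by
      rw [R.card_eq_multiplicity]
      exact Nat.Coprime.pow_left _ (hr.coprime_iff_not_dvd.2 R.not_dvd_index)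
    have h0 : k' ∈ (R : Subgroup G) ⊓ commutator G ⊓ Subgroup.center G :=
      ⟨⟨hR (Subgroup.mem_zpowers k'), hk'c⟩, hk'Z⟩
    rw [Transfer.CenterInf.inf_commutator_inf_center (R : Subgroup G) hHall, Subgroup.mem_bot] at h0
    rw [h0, orderOf_one] at hk'o
    exact hr.ne_one hk'o.symm
  let Φ : (commutator G) × Z →* G :=
    { toFun := fun x => (x.1 : G) * x.2
      map_one' := by simp
      map_mul' := fun x y => by
        show (x.1 : G) * y.1 * ((x.2 : G) * y.2) = x.1 * x.2 * (y.1 * y.2)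
        have h : (y.1 : G) * x.2 = (x.2 : G) * y.1 := Subgroup.mem_center_iff.1 x.2.2 y.1
        calc (x.1 : G) * y.1 * ((x.2 : G) * y.2) = x.1 * (y.1 * x.2) * y.2 := by group
          _ = x.1 * (x.2 * y.1) * y.2 := by rw [h]
          _ = _ := by group }
  have hΦ : Function.Bijective Φ := by
    refine ⟨(injective_iff_map_eq_one Φ).2 fun x hx => ?_, fun a => ?_⟩
    · have h1 : (x.1 : G) = (x.2 : G)⁻¹ := eq_inv_of_mul_eq_one_left hx
      have h2 : (x.1 : G) ∈ commutator G ⊓ Z := ⟨x.1.2, h1 ▸ Z.inv_mem x.2.2⟩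
      rw [hinf, Subgroup.mem_bot] at h2
      rw [h2, eq_comm, inv_eq_one] at h1
      exact Prod.ext (Subtype.ext h2) (Subtype.ext h1)
    · obtain ⟨d, hd, hda⟩ := hcover (π a)
      exact ⟨(⟨d, hd⟩, ⟨d⁻¹ * a, QuotientGroup.eq.1 hda⟩), mul_inv_cancel_left d a⟩
  have hC : Function.Bijective (π.comp (commutator G).subtype) := by
    refine ⟨(injective_iff_map_eq_one _).2 fun x hx => ?_, fun y => ?_⟩
    · have h2 : (x : G) ∈ commutator G ⊓ Z := ⟨x.2, (QuotientGroup.eq_one_iff _).1 hx⟩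
      rw [hinf, Subgroup.mem_bot] at h2
      exact Subtype.ext h2
    · obtain ⟨d, hd, rfl⟩ := hcover y
      exact ⟨⟨d, hd⟩, rfl⟩
  exact ⟨(MulEquiv.ofBijective Φ hΦ).symm.trans
    (MulEquiv.prodCongr ((MulEquiv.ofBijective _ hC).trans eQ) (MulEquiv.refl Z))⟩

end Cfsg.Agent.PrimeBlock.SubTwo
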