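import Cfsg.Agent.Lib.PrimeBlock.SubTwo.Values

/-!
# The order of the group, when the centre has odd order
-/

set_option autoImplicit false
set_option linter.style.haveILetI false
set_option linter.unusedSectionVars false

namespace Cfsg.Agent.PrimeBlock.SubTwo

open Cfsg.Agent.Characters Cfsg.Agent.Blocks
open scoped ComplexConjugate

universe u

variable {G : Type u} [Group G] [Fintype G] {p : ℕ} [Fact p.Prime] {P : Sylow p G}
  {χ : Cfsg.IrrCharacter G} (S : Setting P χ) {W : ℕ} (hW : Twist G p W)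
  (hodd : Odd (Nat.card (Subgroup.center G)))
  (hfaith : ∀ a, (χ : G → ℂ) a = (χ : G → ℂ) 1 → a = 1)
  (hdeg : (χ : G → ℂ) 1 = ((p - 2 : ℕ) : ℂ))

include S hW hodd hfaith hdeg in
/-- Summation over the regular elements. -/
theorem sum_regular (F : G → ℂ) (c₁ c₂ : ℂ)
    (hF0 : ∀ a : G, ¬ p ∣ orderOf a → Odd (orderOf a) → (χ : G → ℂ) a = 0 → F a = 0)
    (hc₁ : ∀ k ∈ Subgroup.center G, F k = c₁)
    (hc₂ : ∀ z k : G, orderOf z = 2 → k ∈ Subgroup.center G → F (z * k) = c₂) :
    ∑ a ∈ Finset.univ.filter (fun a : G => ¬ p ∣ orderOf a), F a =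
      (Nat.card (Subgroup.center G) : ℂ) *
        (c₁ + ((Finset.univ.filter fun z : G => orderOf z = 2).card : ℂ) * c₂) := by
  classical
  set I := Finset.univ.filter fun z : G => orderOf z = 2
  set C := Finset.univ.filter fun k : G => k ∈ Subgroup.center G
  have hC : C.card = Nat.card (Subgroup.center G) := by
    rw [Nat.card_eq_fintype_card, Fintype.card_subtype]
  set M := (I ×ˢ C).image fun x => x.1 * x.2
  have hsub : C ∪ M ⊆ Finset.univ.filter (fun a : G => ¬ p ∣ orderOf a) := by
    intro a ha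
    refine Finset.mem_filter.2 ⟨Finset.mem_univ _, ?_⟩
    rcases Finset.mem_union.1 ha with h | h
    · exact S.regular_center a (Finset.mem_filter.1 h).2
    · obtain ⟨⟨z, k⟩, hzk, rfl⟩ := Finset.mem_image.1 h
      obtain ⟨hz, hk⟩ := Finset.mem_product.1 hzk
      exact orderOf_mul_not_dvd (Fact.out : p.Prime) (comm_center (Finset.mem_filter.1 hk).2 z)
        (regular_of_two S.two_lt (k := 1) (by rw [(Finset.mem_filter.1 hz).2, pow_one]))
        (S.regular_center k (Finset.mem_filter.1 hk).2)
  have hzero : ∀ a ∈ Finset.univ.filter (fun a : G => ¬ p ∣ orderOf a), a ∉ C ∪ M → F a = 0 := by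
    intro a ha hn
    rw [Finset.mem_union, not_or] at hn
    rcases regular_cases S hW hodd hfaith hdeg (Finset.mem_filter.1 ha).2
      (fun h => hn.1 (Finset.mem_filter.2 ⟨Finset.mem_univ _, h⟩)) with ⟨ho, hv⟩ | ⟨z, k, hz, hk, e⟩
    · exact hF0 a (Finset.mem_filter.1 ha).2 ho hv
    · refine absurd (Finset.mem_image.2 ⟨(z, k), ?_, e.symm⟩) hn.2
      simp [I, C, hz, hk]
  have hdisj : Disjoint C M := by
    rw [Finset.disjoint_left]
    intro a ha hm
    obtain ⟨⟨z, k⟩, hzk, rfl⟩ := Finset.mem_image.1 hm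
    obtain ⟨hz, hk⟩ := Finset.mem_product.1 hzk
    refine not_central_involution hodd (Finset.mem_filter.1 hz).2 ?_
    simpa using mul_mem (Finset.mem_filter.1 ha).2 (inv_mem (Finset.mem_filter.1 hk).2)
  have hinj : Set.InjOn (fun x : G × G => x.1 * x.2) (I ×ˢ C : Finset (G × G)) := by
    rintro ⟨z, k⟩ h ⟨z', k'⟩ h' e
    obtain ⟨hz, hk⟩ := Finset.mem_product.1 (Finset.mem_coe.1 h)
    obtain ⟨hz', hk'⟩ := Finset.mem_product.1 (Finset.mem_coe.1 h')
    simp only at e hz hk hz' hk'
    have hpow : ∀ {z k : G}, z ∈ I → k ∈ C → (z * k) ^ Nat.card (Subgroup.center G) = z := by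
      intro z k hz hk
      obtain ⟨t, ht⟩ := hodd
      have hk1 : (⟨k, (Finset.mem_filter.1 hk).2⟩ : Subgroup.center G) ^ Nat.card (Subgroup.center G) = 1 :=
        pow_card_eq_one'
      rw [(comm_center (Finset.mem_filter.1 hk).2 z).mul_pow,
        show k ^ Nat.card (Subgroup.center G) = 1 from congrArg Subtype.val hk1, mul_one, ht, pow_succ,
        pow_mul, ← (Finset.mem_filter.1 hz).2, pow_orderOf_eq_one, one_pow, one_mul]
    have hzz : z = z' := by rw [← hpow hz hk, e, hpow hz' hk']
    subst hzz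
    rw [mul_left_cancel e]
  rw [← Finset.sum_subset hsub hzero, Finset.sum_union hdisj, Finset.sum_image hinj,
    Finset.sum_congr (s₁ := C) rfl fun k hk => hc₁ k (Finset.mem_filter.1 hk).2,
    Finset.sum_congr (s₁ := I ×ˢ C) rfl fun x hx => by
      obtain ⟨hz, hk⟩ := Finset.mem_product.1 hx
      exact hc₂ x.1 x.2 (Finset.mem_filter.1 hz).2 (Finset.mem_filter.1 hk).2,
    Finset.sum_const, Finset.sum_const, Finset.card_product, hC, nsmul_eq_mul, nsmul_eq_mul]
  push_cast
  ring

include S hW hodd hfaith hdeg in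
/-- **The order of a group with odd centre and a faithful character of degree `p - 2`.** -/
theorem card_eq : Nat.card G = p * (p - 1) * (p - 2) * Nat.card (Subgroup.center G) := by
  classical
  haveI := Fintype.ofFinite (Cfsg.IrrCharacter G)
  have h5 := S.two_lt
  have hp : p.Prime := Fact.out
  have hp2 : p ≠ 2 := by omega
  obtain ⟨h, hh⟩ := (hp.eq_two_or_odd'.resolve_left hp2)
  set z0 := Nat.card (Subgroup.center G) with hz0
  set I := (Finset.univ.filter fun z : G => orderOf z = 2).card
  set N := Nat.card G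
  have hN : (N : ℂ) ≠ 0 := natCard_ne_zero
  have hp0 : (p : ℂ) ≠ 0 := Nat.cast_ne_zero.2 hp.ne_zero
  have hd : ((p - 2 : ℕ) : ℂ) = (p : ℂ) - 2 := by rw [Nat.cast_sub (by omega)]; norm_num
  have hη1 : ∀ k ∈ Subgroup.center G, (χ : G → ℂ) k = S.w k * ((p : ℂ) - 2) := fun k hk => by
    rw [S.w_eq hk, hdeg, hd]
  have hη2 : ∀ z k : G, orderOf z = 2 → k ∈ Subgroup.center G → (χ : G → ℂ) (z * k) = -S.w k :=
    fun z k hz hk => by
      rw [S.w_mul k hk, value_involution S hW hodd hfaith hdeg hz]; ring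
  have hsplit : ∀ F : G → ℂ, ∑ a, F a = ∑ a ∈ Finset.univ.filter (fun a : G => p ∣ orderOf a), F a +
      ∑ a ∈ Finset.univ.filter (fun a : G => ¬ p ∣ orderOf a), F a :=
    fun F => (Finset.sum_filter_add_sum_filter_not _ _ _).symm
  have hzreg : ∀ z k : G, orderOf z = 2 → k ∈ Subgroup.center G → ¬ p ∣ orderOf (z * k) :=
    fun z k hz hk => orderOf_mul_not_dvd hp (comm_center hk z)
      (regular_of_two h5 (k := 1) (by rw [hz, pow_one])) (S.regular_center k hk)
  -- the norm of the character
  have e1 : 2 * (N : ℂ) = (p : ℂ) * z0 * (((p : ℂ) - 2) ^ 2 + I) := by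
    have h1 := classInner_isIrr_self (S.fam 1).2
    rw [classInner_def, inv_mul_eq_one₀ hN, hsplit,
      sum_regular S hW hodd hfaith hdeg (fun a => (S.fam 1 : G → ℂ) a * conj ((S.fam 1 : G → ℂ) a))
        (((p : ℂ) - 2) ^ 2) 1 (fun a ha _ hv => by rw [S.fam_reg 1 a ha, hv, zero_mul])
        (fun k hk => by
          rw [S.fam_reg 1 k (S.regular_center k hk), hη1 k hk, map_mul, map_sub, Complex.conj_natCast,
            map_ofNat]
          linear_combination ((p : ℂ) - 2) ^ 2 * S.w_norm hk)
        (fun z k hz hk => by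
          rw [S.fam_reg 1 _ (hzreg z k hz hk), hη2 z k hz hk, map_neg]
          linear_combination S.w_norm hk)] at h1
    have h2 := S.sum_singular_div (fun a => (S.fam 1 : G → ℂ) a * conj ((S.fam 1 : G → ℂ) a))
      (fun a c => by simp only [irr_isClassFunction _ a c])
      (fun i => cs S.ζ (i : ZMod p) * cs S.ζ (i : ZMod p)) fun i k hk => by
        simp only [S.fam_sing 1 _ i.ne_zero k hk, Units.val_one, mul_one, map_neg, map_mul,
          conj_cs S.prim]
        linear_combination (cs S.ζ (i : ZMod p) * cs S.ζ (i : ZMod p)) * S.w_norm hk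
    have h3 := sum_cs_sq S.prim hp2 (a := (1 : ZMod p)) one_ne_zero
    simp only [mul_one] at h3
    rw [h3] at h2
    apply mul_left_cancel₀ (two_ne_zero (α := ℂ))
    linear_combination (2 * (p : ℂ)) * h1 + h2
  -- the symmetric square
  set A : G → ℂ := fun g => ((S.fam 1 : G → ℂ) g ^ 2 + (S.fam 1 : G → ℂ) (g * g)) / 2
  have hA : Cfsg.IsCharacter G A := CharTheory.DegreeThree.isCharacter_symSquare (irr_isCharacter _)
  have e2 : ∀ l : (ZMod p)ˣ, 2 * (p : ℂ) * N * Cfsg.classInner A (S.twisted hW l : G → ℂ) =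
      (p : ℂ) * z0 * (((p : ℂ) - 1) * (((p : ℂ) - 2) ^ 2 - I)) + 2 * N := by
    intro l
    have hi : (N : ℂ) * Cfsg.classInner A (S.twisted hW l : G → ℂ) =
        ∑ a, A a * conj ((S.twisted hW l : G → ℂ) a) := by
      rw [classInner_def, ← mul_assoc, mul_inv_cancel₀ hN, one_mul]
    have hkW : ∀ k ∈ Subgroup.center G, k ^ W = k * k := fun k hk => by
      rw [hW.sq k (hodd.of_dvd_nat ((Subgroup.center G).orderOf_dvd_natCard hk)) (S.regular_center k hk),
        pow_two]
    rw [hsplit, sum_regular S hW hodd hfaith hdeg (fun a => A a * conj ((S.twisted hW l : G → ℂ) a))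
        (((p : ℂ) - 1) * ((p : ℂ) - 2) ^ 2 / 2) (-((p : ℂ) - 1) / 2)
        (fun a ha ho hv => by
          rw [S.twisted_reg hW l ha, hW.sq a ho ha]
          by_cases hc : a ^ 2 ∈ Subgroup.center G
          · refine absurd hv ?_
            obtain ⟨t, ht⟩ := ho
            have h1 : a ∈ Subgroup.center G := by
              have h2 := pow_mem hc (t + 1)
              rw [← pow_mul, show 2 * (t + 1) = orderOf a + 1 by omega, pow_succ, pow_orderOf_eq_one,
                one_mul] at h2
              exact h2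
            rw [S.w_eq h1]
            refine mul_ne_zero (fun e => ?_) (irr_one_ne_zero χ.2)
            have := S.w_norm h1
            rw [e, zero_mul] at this
            exact zero_ne_one this
          · rw [value_odd S hW hodd hfaith hdeg (regular_pow ha 2)
              (ho.of_dvd_nat (orderOf_pow_dvd _)) hc, map_zero, mul_zero])
        (fun k hk => by
          have hr := S.regular_center k hk
          simp only [A, S.fam_reg 1 k hr, S.fam_reg 1 (k * k) (S.regular_center _ (mul_mem hk hk)),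
            S.twisted_reg hW l hr, hkW k hk, hη1 k hk, hη1 _ (mul_mem hk hk), S.w_sq hk, map_mul,
            map_sub, Complex.conj_natCast, map_ofNat]
          linear_combination (((p : ℂ) - 1) * ((p : ℂ) - 2) ^ 2 / 2) *
            (S.w k * conj (S.w k) + 1) * S.w_norm hk)
        (fun z k hz hk => by
          have hr := hzreg z k hz hk
          have hz2 : z * k * (z * k) = k * k := by
            rw [← pow_two, (comm_center hk z).mul_pow, ← hz, pow_orderOf_eq_one, one_mul, hz, pow_two]
          have hzW : (z * k) ^ W = z * (k * k) := by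
            rw [(comm_center hk z).mul_pow, hW.fix z (Or.inl ⟨1, by rw [hz, pow_one]⟩), hkW k hk]
          simp only [A, S.fam_reg 1 _ hr, hz2, S.fam_reg 1 (k * k) (S.regular_center _ (mul_mem hk hk)),
            S.twisted_reg hW l hr, hzW, hη2 z k hz hk, hη2 z _ hz (mul_mem hk hk),
            hη1 _ (mul_mem hk hk), S.w_sq hk, map_neg, map_mul]
          linear_combination (-((p : ℂ) - 1) / 2) * (S.w k * conj (S.w k) + 1) * S.w_norm hk)] at hi
    have h2 := S.sum_singular_div (fun a => A a * conj ((S.twisted hW l : G → ℂ) a))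
      (fun a c => by simp only [char_isClassFunction hA a c, irr_isClassFunction _ a c])
      (fun i => -cs S.ζ ((i : ZMod p) * (l : ZMod p))) fun i k hk => by
        simp only [A, S.twisted_sing hW hodd l i.ne_zero hk, S.fam_sing 1 _ i.ne_zero k hk,
          S.fam_sing_sq i.ne_zero hk, map_neg, map_mul, conj_cs S.prim, Units.val_one, mul_one]
        rw [neg_sq, mul_pow, pow_two (cs S.ζ (i : ZMod p)), cs_mul S.prim, sub_self]
        have h0 : cs S.ζ (0 : ZMod p) = 2 := by simp [cs, zexp_zero]; norm_num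
        rw [h0]
        linear_combination (-cs S.ζ ((i : ZMod p) * (l : ZMod p))) *
          (S.w k * conj (S.w k) + 1) * S.w_norm hk
    rw [Finset.sum_neg_distrib, sum_cs S.prim, if_neg l.ne_zero] at h2
    linear_combination (2 * (p : ℂ)) * hi + h2
  -- the multiplicity is at most one
  obtain ⟨b, hb⟩ := classInner_char_nat hA (irr_isCharacter (S.twisted hW 1))
  have hall : ∀ l, Cfsg.classInner A (S.twisted hW l : G → ℂ) = (b : ℂ) := fun l => by
    rw [← hb]
    exact mul_left_cancel₀ (mul_ne_zero (mul_ne_zero two_ne_zero hp0) hN) ((e2 l).trans (e2 1).symm)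
  have hb1 : b ≤ 1 := by
    set T := (Finset.univ : Finset (ZMod p)ˣ).image (S.twisted hW)
    have hT : T.card = h := by
      have h1 := twice_card_image S hW hodd (Finset.univ : Finset (ZMod p)ˣ) fun j _ => Finset.mem_univ _
      rw [Finset.card_univ, ZMod.card_units_eq_totient, Nat.totient_prime hp] at h1
      simp only [T]
      omega
    obtain ⟨n, hn⟩ := char_eq_sum_nat hA
    have hnT : ∀ ψ ∈ T, n ψ = b := by
      intro ψ hψ
      obtain ⟨l, -, rfl⟩ := Finset.mem_image.1 hψ
      have h1 := hall l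
      rw [hn, classInner_sum_smul_irr (c := fun ξ => (n ξ : ℂ)) Finset.univ,
        if_pos (Finset.mem_univ _)] at h1
      exact_mod_cast h1
    have hA1 : A 1 = ((h * (p - 2) : ℕ) : ℂ) := by
      simp only [A, one_mul, S.fam_one_reg, hdeg]
      push_cast [Nat.cast_sub (show 2 ≤ p by omega)]
      have : (p : ℂ) = 2 * h + 1 := by exact_mod_cast congrArg (Nat.cast (R := ℂ)) hh
      rw [this]; ring
    have hsum : ∑ ψ ∈ T, n ψ * (p - 2) ≤ h * (p - 2) := by
      have h1 : ∑ ψ : Cfsg.IrrCharacter G, n ψ * Cfsg.charDegree (ψ : G → ℂ) = h * (p - 2) := by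
        apply Nat.cast_injective (R := ℂ)
        rw [← hA1, hn]
        simp [Finset.sum_apply, charDegree_cast]
      rw [← h1]
      refine le_trans (le_of_eq (Finset.sum_congr rfl fun ψ hψ => ?_))
        (Finset.sum_le_sum_of_subset (Finset.subset_univ T))
      obtain ⟨l, -, rfl⟩ := Finset.mem_image.1 hψ
      congr 1
      apply Nat.cast_injective (R := ℂ)
      rw [charDegree_cast, S.twisted_reg hW l regular_one, one_pow, hdeg]
    rw [Finset.sum_congr rfl fun ψ hψ => by rw [hnT ψ hψ], Finset.sum_const, hT, smul_eq_mul] at hsum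
    by_contra hb2
    have h2 : 2 * (h * (p - 2)) ≤ h * (b * (p - 2)) := by
      rw [show h * (b * (p - 2)) = b * (h * (p - 2)) by ring]
      exact Nat.mul_le_mul_right _ (by omega)
    have : 0 < h * (p - 2) := Nat.mul_pos (by omega) (by omega)
    omega
  have e2' := e2 1
  rw [hb] at e2'
  rcases (show b = 0 ∨ b = 1 by omega) with rfl | rfl
  · have h1 : (N : ℂ) = ((p * (p - 1) * (p - 2) * z0 : ℕ) : ℂ) := by
      push_cast [Nat.cast_sub (show 1 ≤ p by omega), Nat.cast_sub (show 2 ≤ p by omega)]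
      have hne : ((p : ℂ) - 2) ≠ 0 := by
        rw [← hd]; exact Nat.cast_ne_zero.2 (by omega)
      apply mul_left_cancel₀ hne
      push_cast at e2'
      linear_combination (((p : ℂ) - 1) / 2) * e1 + (1 / 2 : ℂ) * e2'
    exact_mod_cast h1
  · exfalso
    have hne : ((p : ℂ) - 1) ≠ 0 := by
      rw [sub_ne_zero]; exact_mod_cast (show p ≠ 1 by omega)
    have h1 : ((2 * N : ℕ) : ℂ) = ((p * z0 * (p - 2) ^ 2 : ℕ) : ℂ) := by
      push_cast [Nat.cast_sub (show 2 ≤ p by omega)]
      apply mul_left_cancel₀ hne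
      push_cast at e2'
      linear_combination (((p : ℂ) - 1) / 2) * e1 + (1 / 2 : ℂ) * e2'
    have h2 : 2 * N = p * z0 * (p - 2) ^ 2 := by exact_mod_cast h1
    have h3 : Odd (p * z0 * (p - 2) ^ 2) :=
      (((hp.eq_two_or_odd'.resolve_left hp2)).mul hodd).mul (Odd.pow ⟨h - 1, by omega⟩)
    rw [← h2] at h3
    exact Nat.not_even_iff_odd.2 h3 ⟨N, by ring⟩

end Cfsg.Agent.PrimeBlock.SubTwo
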