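import Cfsg.Agent.Lib.PrimeBlock.SubTwo.Scalar
import Cfsg.Agent.Lib.Blocks.PrimeBlock.Count
import Cfsg.Agent.BlockCharsA.PConjugate
import Cfsg.Agent.Lib.CharTheory.Basics

/-!
# A faithful character of degree `p - 2` at a Sylow subgroup of order `p`

The character is exceptional in its block, `C(P) = P × Z(G)` and `|N(P) : C(P)| = 2`.
-/

set_option autoImplicit false
set_option linter.style.haveILetI false
set_option linter.unusedSectionVars false

namespace Cfsg.Agent.PrimeBlock.SubTwo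

open Cfsg.Agent.Characters Cfsg.Agent.Blocks Cfsg.Agent.Blocks.PrimeBlock
open scoped ComplexConjugate

universe u

/-- The sum of a pair of inverse roots of unity. -/
noncomputable def cs {p : ℕ} (ζ : ℂ) (x : ZMod p) : ℂ := zexp ζ x + zexp ζ (-x)

section Pairs

variable {p : ℕ} [Fact p.Prime] {ζ : ℂ} (hζ : IsPrimitiveRoot ζ p)
include hζ

theorem conj_cs (x : ZMod p) : conj (cs ζ x) = cs ζ x := by
  rw [cs, map_add, conj_zexp hζ, conj_zexp hζ, neg_neg, add_comm]

theorem cs_mul (x y : ZMod p) : cs ζ x * cs ζ y = cs ζ (x + y) + cs ζ (x - y) := by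
  simp only [cs, add_mul, mul_add, ← zexp_add hζ, neg_add, neg_sub, sub_eq_add_neg, neg_neg]
  rw [add_comm (-x) (-y), add_comm (-x) y]
  ring

theorem sum_units_zexp' (a : ZMod p) :
    ∑ i : (ZMod p)ˣ, zexp ζ ((i : ZMod p) * a) = if a = 0 then (p : ℂ) - 1 else -1 := by
  have h := sum_zexp_mul hζ a
  rw [← sum_units_eq', zero_mul, zexp_zero] at h
  split_ifs at h ⊢ <;> linear_combination h
where
  sum_units_eq' {F : ZMod p → ℂ} : F 0 + ∑ j : (ZMod p)ˣ, F (j : ZMod p) = ∑ x : ZMod p, F x := by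
    classical
    rw [← Finset.add_sum_erase _ _ (Finset.mem_univ (0 : ZMod p))]
    congr 1
    exact Finset.sum_bij (fun (j : (ZMod p)ˣ) _ => (j : ZMod p)) (by simp)
      (fun a _ b _ e => Units.ext e)
      (fun b hb => ⟨Units.mk0 b (Finset.mem_erase.1 hb).1, Finset.mem_univ _, rfl⟩) fun j _ => rfl

theorem sum_cs (a : ZMod p) :
    ∑ i : (ZMod p)ˣ, cs ζ ((i : ZMod p) * a) = if a = 0 then 2 * (p : ℂ) - 2 else -2 := by
  simp only [cs, ← mul_neg, Finset.sum_add_distrib, sum_units_zexp' hζ, neg_eq_zero]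
  split_ifs <;> ring

theorem sum_cs_sq (hp : p ≠ 2) {a : ZMod p} (ha : a ≠ 0) :
    ∑ i : (ZMod p)ˣ, cs ζ ((i : ZMod p) * a) * cs ζ ((i : ZMod p) * a) = 2 * (p : ℂ) - 4 := by
  have h2 : a + a ≠ 0 := by
    rw [← two_mul]
    refine mul_ne_zero (fun e => hp ?_) ha
    have : ((2 : ℕ) : ZMod p) = 0 := by simpa using e
    exact (Nat.prime_dvd_prime_iff_eq Fact.out Nat.prime_two).1 ((ZMod.natCast_eq_zero_iff _ _).1 this)
  simp only [cs_mul hζ, sub_self, ← mul_add, Finset.sum_add_distrib, sum_cs hζ, if_neg h2]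
  have h0 : ∑ i : (ZMod p)ˣ, cs ζ (0 : ZMod p) = 2 * (p : ℂ) - 2 := by
    have := sum_cs hζ (0 : ZMod p)
    simpa using this
  rw [h0]
  ring

end Pairs

variable {G : Type u} [Group G] [Finite G] {p : ℕ} [Fact p.Prime]

/-- What the local analysis yields. -/
structure Setting (P : Sylow p G) (χ : Cfsg.IrrCharacter G) where
  two_lt : 5 < p
  g : G
  ζ : ℂ
  prim : IsPrimitiveRoot ζ p
  order : orderOf g = p
  gen : Subgroup.zpowers g = (P : Subgroup G)
  not_dvd_center : ¬ p ∣ Nat.card (Subgroup.center G)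
  regular_or_conj : ∀ a : G, ¬ p ∣ orderOf a ∨
    ∃ i : ZMod p, i ≠ 0 ∧ ∃ k ∈ Subgroup.center G, IsConj a (g ^ i.val * k)
  decomp : ∀ c ∈ Subgroup.centralizer ((P : Subgroup G) : Set G),
    ∃ i : ZMod p, ∃ k ∈ Subgroup.center G, c = g ^ i.val * k
  unique : ∀ {i j : ZMod p} {k l : G}, k ∈ Subgroup.center G → l ∈ Subgroup.center G →
    g ^ i.val * k = g ^ j.val * l → i = j ∧ k = l
  regular_center : ∀ k ∈ Subgroup.center G, ¬ p ∣ orderOf k
  singular : ∀ i : ZMod p, i ≠ 0 → ∀ k ∈ Subgroup.center G, p ∣ orderOf (g ^ i.val * k)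
  weight : ∀ n ∈ Subgroup.normalizer ((P : Subgroup G) : Set G),
    ∃ v : (ZMod p)ˣ, n * g * n⁻¹ = g ^ (v : ZMod p).val
  card_normalizer : Nat.card (Subgroup.normalizer ((P : Subgroup G) : Set G)) =
    2 * p * Nat.card (Subgroup.center G)
  invert : ∃ n : G, n * g * n⁻¹ = g⁻¹
  w : G → ℂ
  w_mul : ∀ k ∈ Subgroup.center G, ∀ b, (χ : G → ℂ) (b * k) = w k * (χ : G → ℂ) b
  fam : (ZMod p)ˣ → Cfsg.IrrCharacter G
  fam_reg : ∀ j, ∀ a : G, ¬ p ∣ orderOf a → (fam j : G → ℂ) a = (χ : G → ℂ) a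
  fam_sing : ∀ j : (ZMod p)ˣ, ∀ i : ZMod p, i ≠ 0 → ∀ k ∈ Subgroup.center G,
    (fam j : G → ℂ) (g ^ i.val * k) = -(w k * cs ζ (i * (j : ZMod p)))
  val_g : ∃ j : (ZMod p)ˣ, ∀ i : ZMod p, i ≠ 0 → (χ : G → ℂ) (g ^ i.val) = -cs ζ (i * (j : ZMod p))

/-- A function whose transform vanishes away from `0` is constant. -/
theorem const_of_dft {ζ : ℂ} (hζ : IsPrimitiveRoot ζ p) (f : ZMod p → ℤ)
    (h : ∀ i : ZMod p, i ≠ 0 → ∑ j : ZMod p, (f j : ℂ) * zexp ζ (i * j) = 0) (j : ZMod p) :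
    f j = f 0 := by
  classical
  have key : ∀ a : ZMod p, (p : ℂ) * (f a : ℂ) = ∑ j : ZMod p, (f j : ℂ) := by
    intro a
    have h1 : ∑ i : ZMod p, zexp ζ (i * -a) * ∑ j : ZMod p, (f j : ℂ) * zexp ζ (i * j) =
        ∑ j : ZMod p, (f j : ℂ) := by
      rw [← Finset.add_sum_erase _ _ (Finset.mem_univ (0 : ZMod p)),
        Finset.sum_eq_zero (s := Finset.univ.erase (0 : ZMod p)) fun i hi => by rw [h i (Finset.mem_erase.1 hi).1, mul_zero], add_zero,
        zero_mul, zexp_zero, one_mul]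
      exact Finset.sum_congr rfl fun j _ => by rw [zero_mul, zexp_zero, mul_one]
    rw [← h1]
    simp only [Finset.mul_sum]
    rw [Finset.sum_comm, Finset.sum_congr rfl fun j _ => show
      ∑ i : ZMod p, zexp ζ (i * -a) * ((f j : ℂ) * zexp ζ (i * j)) =
        (f j : ℂ) * (if j - a = 0 then (p : ℂ) else 0) by
      rw [← sum_zexp_mul hζ, Finset.mul_sum]
      exact Finset.sum_congr rfl fun i _ => by
        rw [show i * (j - a) = i * -a + i * j by ring, zexp_add hζ]; ring]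
    simp only [sub_eq_zero, mul_ite, mul_zero, Finset.sum_ite_eq', Finset.mem_univ, if_true]
    ring
  have h2 := mul_left_cancel₀ (Nat.cast_ne_zero.2 (NeZero.ne p)) ((key j).trans (key 0).symm)
  exact_mod_cast h2

theorem sum_units_eq {M : Type*} [AddCommMonoid M] (F : ZMod p → M) :
    F 0 + ∑ j : (ZMod p)ˣ, F (j : ZMod p) = ∑ x : ZMod p, F x := by
  classical
  rw [← Finset.add_sum_erase _ _ (Finset.mem_univ (0 : ZMod p))]
  congr 1
  exact Finset.sum_bij (fun (j : (ZMod p)ˣ) _ => (j : ZMod p)) (by simp)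
    (fun a _ b _ e => Units.ext e)
    (fun b hb => ⟨Units.mk0 b (Finset.mem_erase.1 hb).1, Finset.mem_univ _, rfl⟩) fun j _ => rfl

theorem no_const {χ : Cfsg.IrrCharacter G} (hfaith : ∀ a, (χ : G → ℂ) a = (χ : G → ℂ) 1 → a = 1)
    (hdeg : (χ : G → ℂ) 1 = ((p - 2 : ℕ) : ℂ)) {g : G} {K : Subgroup G} {h : G} {u : (ZMod p)ˣ}
    {P : Sylow p G} [Fintype K] (D : PrimeData p P g K h u) {ζ : ℂ} (hζ : IsPrimitiveRoot ζ p)
    (c : Cfsg.IrrCharacter K → ℂ) :
    ¬ ∀ φ : Cfsg.IrrCharacter K, ∀ i : ZMod p, i ≠ 0 → dd D φ χ i = c φ := by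
  classical
  intro hc
  have hp : p.Prime := Fact.out
  haveI := Fintype.ofFinite (Cfsg.IrrCharacter K)
  -- the multiplicities of the eigenvalues of `g`
  choose m hm using fun φ : Cfsg.IrrCharacter K => exists_mult D hζ φ χ
  set M : ZMod p → ℕ := fun j => ∑ φ : Cfsg.IrrCharacter K, m φ j * Cfsg.charDegree (φ : K → ℂ)
  have hval : ∀ i : ZMod p, (χ : G → ℂ) (g ^ i.val) = ∑ j : ZMod p, (M j : ℂ) * zexp ζ (i * j) := by
    intro i
    have h1 := value_eq_sum D χ i (1 : K)
    rw [Subgroup.coe_one, mul_one] at h1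
    rw [h1]
    simp only [M, Nat.cast_sum, Finset.sum_mul, Nat.cast_mul, charDegree_cast, hm]
    rw [Finset.sum_comm]
    exact Finset.sum_congr rfl fun φ _ => Finset.sum_congr rfl fun j _ => by ring
  have hgi : ∀ i : ZMod p, i ≠ 0 → (χ : G → ℂ) (g ^ i.val) = (χ : G → ℂ) (g ^ (1 : ZMod p).val) := by
    intro i hi
    have h1 := value_eq_sum D χ i (1 : K)
    have h2 := value_eq_sum D χ (1 : ZMod p) (1 : K)
    rw [Subgroup.coe_one, mul_one] at h1 h2
    rw [h1, h2]
    exact Finset.sum_congr rfl fun φ _ => by rw [hc φ i hi, hc φ 1 one_ne_zero]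
  -- for every `a` the function `j ↦ M (a * j)` has the transform of `M`
  have hconst : ∀ a : (ZMod p)ˣ, M (a : ZMod p) = M 1 := by
    intro a
    have h1 := const_of_dft hζ (fun j => (M ((a : ZMod p) * j) : ℤ) - M j) (fun i hi => by
      simp only [Int.cast_sub, Int.cast_natCast, sub_mul, Finset.sum_sub_distrib]
      rw [sub_eq_zero, ← hval i,
        ← hgi _ (mul_ne_zero (inv_ne_zero a.ne_zero) hi) |>.trans (hgi i hi).symm, hval]
      refine Fintype.sum_equiv (Equiv.mulLeft₀ (a : ZMod p) a.ne_zero) _ _ fun j => ?_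
      show _ = (M ((a : ZMod p) * j) : ℂ) * zexp ζ ((a : ZMod p)⁻¹ * i * ((a : ZMod p) * j))
      congr 2
      field_simp) 1
    simp only [mul_zero, sub_self, mul_one, sub_eq_zero, Nat.cast_inj] at h1
    exact h1
  have hsum : (χ : G → ℂ) 1 = (M 0 : ℂ) + ((p - 1 : ℕ) : ℂ) * (M 1 : ℂ) := by
    have h1 := hval 0
    simp only [ZMod.val_zero, pow_zero, zero_mul, zexp_zero, mul_one] at h1
    rw [h1, ← sum_units_eq (fun j => (M j : ℂ))]
    simp [hconst, Nat.totient_prime hp]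
  rw [hdeg] at hsum
  have hM1 : M 1 = 0 := by
    by_contra hne
    have h' : p - 2 = M 0 + (p - 1) * M 1 := by exact_mod_cast hsum
    have := Nat.le_mul_of_pos_right (p - 1) (Nat.pos_of_ne_zero hne)
    have := hp.two_le
    omega
  refine D.g_ne_one (hfaith g ?_)
  have h1 := hval 1
  rw [ZMod.val_one, pow_one, ← sum_units_eq] at h1
  simp only [hconst, hM1, Nat.cast_zero, zero_mul, Finset.sum_const_zero, add_zero, mul_zero,
    zexp_zero, mul_one] at h1
  rw [h1, hdeg, hsum, hM1]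
  simp

set_option maxHeartbeats 1600000 in
theorem exists_setting (h5 : 5 < p) (P : Sylow p G) (hP : Nat.card (P : Subgroup G) = p)
    (hnn : ¬ (P : Subgroup G).Normal) (χ : Cfsg.IrrCharacter G)
    (hfaith : ∀ a, (χ : G → ℂ) a = (χ : G → ℂ) 1 → a = 1)
    (hdeg : (χ : G → ℂ) 1 = ((p - 2 : ℕ) : ℂ)) : Nonempty (Setting P χ) := by
  classical
  have hp : p.Prime := Fact.out
  obtain ⟨M, hM⟩ := BlockCharsA.DefectZeroVanish.exists_modular hp
  obtain ⟨g, K, h, u, D⟩ := exists_primeData P hP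
  haveI := Fintype.ofFinite K
  haveI := Fintype.ofFinite (Cfsg.IrrCharacter K)
  -- the block
  set B := Cfsg.blockOf M (χ : G → ℂ) with hBdef
  have hB := isPBlock_blockOf M χ
  have hχB := mem_blockOf_self hM χ
  have hdeg' : Cfsg.charDegree (χ : G → ℂ) = p - 2 := by
    apply Nat.cast_injective (R := ℂ)
    rw [charDegree_cast, hdeg]
  have hpos : 0 < Cfsg.blockDefect p B := by
    unfold Cfsg.blockDefect
    have h0 : sInf ((fun χ : Cfsg.IrrCharacter G =>
        (Cfsg.charDegree (χ : G → ℂ)).factorization p) '' B) = 0 := by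
      refine Nat.sInf_eq_zero.2 (Or.inl ⟨χ, hχB, ?_⟩)
      show (Cfsg.charDegree (χ : G → ℂ)).factorization p = 0
      rw [hdeg']
      exact Nat.factorization_eq_zero_of_not_dvd fun hd => by
        have := Nat.le_of_dvd (by omega) hd; omega
    rw [h0, D.factorization_card]
    omega
  obtain ⟨hBP, φ, hind⟩ := exists_full D hM hB hpos
  obtain ⟨ζ, hζ, haut⟩ := exists_aut_weight D
  obtain ⟨θ, c, s, c₀, ε, hd⟩ := exists_blockData D hM hB hBP hind hζ
  set r := Nat.card ((ZMod p)ˣ ⧸ (sgp D φ)) with hr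
  have hzero : ∀ φ' : Cfsg.IrrCharacter K, φ' ∉ orb D φ → ∀ i : ZMod p, i ≠ 0 →
      dd D φ' χ i = 0 := by
    intro φ' h' i hi
    by_contra hne
    obtain ⟨a, ha⟩ := conj_of_induced D hM hBP hind (induced_of_dd_ne_zero D hM hB hχB hi hne)
    exact h' ((mem_orb D).2 ⟨a, ha.symm⟩)
  -- `χ` is exceptional, in one of at least two classes
  have hnc : ¬ ∃ c' : ℂ, ∀ i : ZMod p, i ≠ 0 → dd D φ χ i = c' := by
    rintro ⟨c', hc'⟩
    refine no_const hfaith hdeg D hζ (fun φ' => if φ' ∈ orb D φ then c' else 0) fun φ' i hi => ?_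
    show dd D φ' χ i = _
    by_cases h' : φ' ∈ orb D φ
    · rw [if_pos h', dd_orb D h', hc' _ (mul_ne_zero (Units.ne_zero _) hi)]
    · rw [if_neg h', hzero φ' h' i hi]
  have hY : χ ∈ Set.range θ := by
    by_contra hX
    exact hnc ⟨_, fun i hi => hd.value_X χ ⟨hχB, hX⟩ i hi⟩
  obtain ⟨J, hJ⟩ := hY
  haveI := Fintype.ofFinite ((ZMod p)ˣ ⧸ (sgp D φ))
  have hr2 : 2 ≤ r := by
    by_contra hlt
    haveI : Subsingleton ((ZMod p)ˣ ⧸ (sgp D φ)) := by
      rw [← not_nontrivial_iff_subsingleton, ← Finite.one_lt_card_iff_nontrivial]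
      omega
    refine hnc ⟨-(c₀ : ℂ) + (ε : ℂ) * -1, fun i hi => ?_⟩
    have h1 := sum_sS (S := (sgp D φ)) hζ hi
    rw [Fintype.sum_subsingleton _ J] at h1
    rw [← hJ, hd.value_Y J i hi, h1]
  -- multiplicities
  obtain ⟨j₀, hj₀⟩ := QuotientGroup.mk_surjective J
  have hfib : (Finset.univ.filter fun j : (ZMod p)ˣ => (j : (ZMod p)ˣ ⧸ (sgp D φ)) = J).card = Nat.card (sgp D φ) := by
    rw [Nat.card_eq_fintype_card, ← Finset.card_univ, eq_comm]
    refine Finset.card_bij (fun v _ => j₀ * (v : (ZMod p)ˣ)) (fun v _ => ?_)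
      (fun a _ b _ e => Subtype.ext (mul_left_cancel e)) fun j hj => ?_
    · refine Finset.mem_filter.2 ⟨Finset.mem_univ _, ?_⟩
      rw [QuotientGroup.mk_mul, (QuotientGroup.eq_one_iff (v : (ZMod p)ˣ)).2 v.2, mul_one, hj₀]
    · refine ⟨⟨j₀⁻¹ * j, ?_⟩, Finset.mem_univ _, mul_inv_cancel_left _ _⟩
      rw [← QuotientGroup.eq, hj₀, (Finset.mem_filter.1 hj).2]
  have hval : ∀ i : ZMod p, i ≠ 0 → dd D φ χ i = -(c₀ : ℂ) + (ε : ℂ) * sS ζ J i :=
    fun i hi => by rw [← hJ]; exact hd.value_Y J i hi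
  obtain ⟨m, hm⟩ := exists_mult D hζ φ χ
  set cls : ZMod p → ℤ := fun j =>
    if hj : j = 0 then 0 else if ((Units.mk0 j hj : (ZMod p)ˣ) : (ZMod p)ˣ ⧸ (sgp D φ)) = J then 1 else 0
  set κ : ℤ := (m 0 : ℤ) + c₀
  have hmult : ∀ j : ZMod p, (m j : ℤ) + (if j = 0 then c₀ else 0) - ε * cls j = κ := by
    intro j
    refine (const_of_dft hζ (fun j => (m j : ℤ) + (if j = 0 then c₀ else 0) - ε * cls j)
      (fun i hi => ?_) j).trans (by simp [cls, κ])
    simp only [Int.cast_sub, Int.cast_add, Int.cast_mul, Int.cast_natCast, sub_mul, add_mul,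
      Finset.sum_sub_distrib, Finset.sum_add_distrib, mul_assoc, ← Finset.mul_sum, ← hm i]
    rw [← sum_units_eq (fun j => ((cls j : ℤ) : ℂ) * zexp ζ (i * j)), hval i hi]
    simp [cls, sS, zexp_zero, apply_ite (Int.cast : ℤ → ℂ)]
  have hm0 : dd D φ χ 0 = (((p : ℤ) * m 0 + s * (Nat.card (sgp D φ) : ℤ) : ℤ) : ℂ) := by
    have h1 : ∑ j : ZMod p, (m j : ℤ) = (p : ℤ) * κ - c₀ + ε * (Nat.card (sgp D φ) : ℤ) := by
      rw [Finset.sum_congr rfl fun j _ =>
        show (m j : ℤ) = κ - (if j = 0 then c₀ else 0) + ε * cls j by linarith [hmult j],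
        Finset.sum_add_distrib, Finset.sum_sub_distrib, Finset.sum_const, Finset.card_univ,
        ZMod.card, ← Finset.mul_sum, ← sum_units_eq cls]
      simp [cls, Finset.sum_ite, mul_comm]
      exact Or.inl (hfib.trans Nat.card_eq_fintype_card)
    have h2 : (p : ℤ) - 1 = (r : ℤ) * (Nat.card (sgp D φ) : ℤ) := by
      have h3 : r * Nat.card (sgp D φ) = p - 1 := by
        rw [hr, ← Subgroup.index, Subgroup.index_mul_card, Nat.card_eq_fintype_card, ZMod.card_units]
      rw [← Nat.cast_mul, h3, Nat.cast_sub hp.one_le, Nat.cast_one]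
    have h4 : (p : ℤ) * κ - c₀ + ε * (Nat.card (sgp D φ) : ℤ) = (p : ℤ) * m 0 + s * (Nat.card (sgp D φ) : ℤ) := by
      rw [hd.s_eq, ← hr]
      linear_combination (c₀ : ℤ) * h2
    rw [← h4, ← h1, hm 0]
    push_cast
    exact Finset.sum_congr rfl fun j _ => by rw [zero_mul, zexp_zero, mul_one]
  -- the characters of `K` outside the orbit
  choose m' hm' using fun φ' : Cfsg.IrrCharacter K => exists_mult D hζ φ' χ
  have hout : ∀ φ', φ' ∉ orb D φ → dd D φ' χ 0 = ((p * m' φ' 0 : ℕ) : ℂ) := by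
    intro φ' h'
    have hc' : ∀ j, (m' φ' j : ℤ) = m' φ' 0 := const_of_dft hζ _ fun i hi => by
      rw [← hzero φ' h' i hi, hm' φ' i]; simp
    rw [hm' φ' 0]
    simp only [zero_mul, zexp_zero, mul_one]
    rw [← Nat.cast_sum, Finset.sum_congr rfl fun j _ => Nat.cast_injective (hc' j), Finset.sum_const,
      Finset.card_univ, ZMod.card, smul_eq_mul]
  set o := (orb D φ).card
  set d := Cfsg.charDegree (φ : K → ℂ)
  set T := ∑ φ' ∈ Finset.univ \ orb D φ, m' φ' 0 * Cfsg.charDegree (φ' : K → ℂ) with hT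
  have hdegEq : ((p : ℤ) - 2) = (o : ℤ) * d * ((p : ℤ) * m 0 + s * (Nat.card (sgp D φ) : ℤ)) + p * T := by
    have h1 := value_eq_sum D χ 0 (1 : K)
    rw [ZMod.val_zero, pow_zero, one_mul, Subgroup.coe_one, hdeg,
      ← Finset.sum_sdiff (Finset.subset_univ (orb D φ)),
      Finset.sum_congr (s₁ := orb D φ) rfl fun φ' h' => by
        rw [dd_orb D h', mul_zero, hm0, orb_one D h', ← charDegree_cast],
      Finset.sum_congr (s₁ := Finset.univ \ orb D φ) rfl fun φ' h' => by
        rw [hout φ' (Finset.mem_sdiff.1 h').2, ← charDegree_cast], Finset.sum_const, nsmul_eq_mul]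
      at h1
    apply Int.cast_injective (α := ℂ)
    rw [Nat.cast_sub (by omega)] at h1
    simp only [T, Int.cast_sub, Int.cast_mul, Int.cast_add, Int.cast_natCast, Nat.cast_sum,
      Nat.cast_mul, Int.cast_ofNat, Finset.mul_sum, Nat.cast_ofNat, Int.cast_sum] at h1 ⊢
    rw [h1, add_comm]
    congr 1
    · ring
    · exact Finset.sum_congr rfl fun φ' _ => by ring
  have ho : 1 ≤ o := card_orb_pos D φ
  have hd1 : 1 ≤ d := charDegree_pos φ
  have hScard : 1 ≤ Nat.card (sgp D φ) := Nat.card_pos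
  have he : Nat.card (sgp D φ) * o = orderOf u := card_orb_mul D φ
  have heP : orderOf u ∣ p - 1 := ZMod.orderOf_units_dvd_card_sub_one u
  -- signs of the multiplicities
  obtain ⟨J', hJ'⟩ := Fintype.exists_ne_of_one_lt_card (show 1 < Fintype.card ((ZMod p)ˣ ⧸ (sgp D φ)) by
    rw [← Nat.card_eq_fintype_card]; omega) J
  obtain ⟨j₁, hj₁⟩ := QuotientGroup.mk_surjective J'
  have hκ : 0 ≤ κ := by
    have h1 := hmult (j₁ : ZMod p)
    simp [cls, hj₁, hJ'] at h1
    rw [← h1]; exact Int.natCast_nonneg _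
  have hB' : 0 ≤ κ + ε := by
    have h1 := hmult (j₀ : ZMod p)
    simp [cls, hj₀] at h1
    linarith [Int.natCast_nonneg (m (j₀ : ZMod p))]
  have hgc : g ∉ Subgroup.center G := fun hg => hnn <| by
    have hle : (P : Subgroup G) ≤ Subgroup.center G := by rw [← D.gen, Subgroup.zpowers_le]; exact hg
    exact ⟨fun n hn a => by rwa [Subgroup.mem_center_iff.1 (hle hn) a, mul_inv_cancel_right]⟩
  -- the sign is `-1`
  have hs : s = -1 := by
    refine hd.sign_Y.resolve_left fun hs1 => ?_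
    rw [hs1, one_mul] at hdegEq
    have hm00 : m 0 = 0 := by
      by_contra hne
      have h1 : (1 : ℤ) ≤ m 0 := by exact_mod_cast Nat.pos_of_ne_zero hne
      have h2 : (1 : ℤ) ≤ o * d := by exact_mod_cast Nat.mul_pos ho hd1
      have h3 : (p : ℤ) ≤ (p : ℤ) * m 0 + Nat.card (sgp D φ) := by
        nlinarith [Int.natCast_nonneg p, Int.natCast_nonneg (Nat.card (sgp D φ))]
      have h4 := mul_le_mul h2 h3 (Int.natCast_nonneg p) (by positivity)
      nlinarith [Int.natCast_nonneg T, Int.natCast_nonneg p, h4]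
    have hT0 : T = 0 := by
      by_contra hne
      have h1 : (1 : ℤ) ≤ T := by exact_mod_cast Nat.pos_of_ne_zero hne
      have h2 : (0 : ℤ) ≤ o * d * Nat.card (sgp D φ) := by positivity
      rw [hm00] at hdegEq
      push_cast at hdegEq
      nlinarith [mul_le_mul_of_nonneg_left h1 (Int.natCast_nonneg p)]
    rw [hm00, hT0] at hdegEq
    push_cast at hdegEq
    simp only [mul_zero, zero_add, add_zero] at hdegEq
    have hprod : o * d * Nat.card (sgp D φ) = p - 2 := by
      have h1 : ((o * d * Nat.card (sgp D φ) : ℕ) : ℤ) = (p : ℤ) - 2 := by push_cast; exact hdegEq.symm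
      omega
    have he1 : orderOf u = 1 := by
      have h1 : orderOf u ∣ p - 2 := ⟨d, by rw [← hprod, ← he]; ring⟩
      have h2 := Nat.dvd_sub heP h1
      rw [show p - 1 - (p - 2) = 1 by omega] at h2
      exact Nat.dvd_one.1 h2
    have ho1 : o = 1 := Nat.eq_one_of_mul_eq_one_left (he.trans he1)
    have hS1 : Nat.card (sgp D φ) = 1 := Nat.eq_one_of_mul_eq_one_right (he.trans he1)
    -- the values on `P` are scalar
    have hr' : r = p - 1 := by
      have h3 : r * Nat.card (sgp D φ) = p - 1 := by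
        rw [hr, ← Subgroup.index, Subgroup.index_mul_card, Nat.card_eq_fintype_card, ZMod.card_units]
      rwa [hS1, mul_one] at h3
    have hc0 : c₀ = 0 := by
      have h1 := hd.s_eq
      rw [← hr, hr', hs1, Nat.cast_sub hp.one_le, Nat.cast_one] at h1
      have hκ0 : κ = c₀ := by simp [κ, hm00]
      rw [hκ0] at hκ hB'
      by_contra hne
      have : (1 : ℤ) ≤ c₀ := by omega
      have h6 : p ≠ 6 := fun e => absurd hp (by rw [e]; norm_num)
      have h7 : (7 : ℤ) ≤ p := by exact_mod_cast (show 7 ≤ p by omega)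
      nlinarith
    have hε1 : ε = 1 := by
      have h1 := hd.s_eq
      rw [hc0, hs1] at h1
      omega
    have hval1 : (χ : G → ℂ) g = (d : ℂ) * sS ζ J 1 := by
      obtain ⟨φ₀, hφ₀⟩ := Finset.card_eq_one.1 ho1
      have hmem : φ ∈ orb D φ := (mem_orb D).2 ⟨1, cjI_one D φ⟩
      rw [hφ₀, Finset.mem_singleton] at hmem
      rw [← hmem] at hφ₀
      rw [value_g D hM hB hBP hind hχB, hφ₀, Finset.sum_singleton, ← charDegree_cast φ]
      congr 1
      have h1 := dd_orb D (φ := φ) (φ' := φ) (by rw [hφ₀]; simp) χ 1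
      rw [mul_one] at h1
      rw [← h1, hval 1 one_ne_zero, hc0, hε1]
      simp
    have hsS : ‖sS ζ J (1 : ZMod p)‖ = 1 := by
      have hSb : (sgp D φ) = ⊥ := Subgroup.card_eq_one.1 hS1
      rw [sS, ← Finset.sum_filter, Finset.card_eq_one.1 (hfib.trans hS1) |>.choose_spec,
        Finset.sum_singleton, zexp, norm_pow,
        Complex.norm_eq_one_of_pow_eq_one hζ.pow_eq_one hp.ne_zero, one_pow]
    refine hgc (scalar_of_norm χ.2 hfaith ?_)
    rw [hval1, norm_mul, hsS, mul_one, hdeg, Complex.norm_natCast, Complex.norm_natCast,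
      show d = p - 2 by rw [← hprod, ho1, hS1, one_mul, mul_one]]
  subst hs
  -- sizes
  have hm1 : 1 ≤ m 0 := by
    by_contra hlt
    have h0 : m 0 = 0 := by omega
    have h1 := hd.s_eq
    rw [← hr] at h1
    have hκ0 : κ = c₀ := by simp [κ, h0]
    rw [hκ0] at hκ hB'
    nlinarith [show (2 : ℤ) ≤ r by exact_mod_cast hr2]
  have hS2 : 2 * Nat.card (sgp D φ) ≤ p - 1 := by
    have h3 : r * Nat.card (sgp D φ) = p - 1 := by
      rw [hr, ← Subgroup.index, Subgroup.index_mul_card, Nat.card_eq_fintype_card, ZMod.card_units]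
    rw [← h3]; exact Nat.mul_le_mul_right _ hr2
  have hS2' : 2 * (Nat.card (sgp D φ) : ℤ) + 1 ≤ p := by
    have : 2 * Nat.card (sgp D φ) + 1 ≤ p := by omega
    exact_mod_cast this
  have hbr : (p : ℤ) - Nat.card (sgp D φ) ≤ (p : ℤ) * m 0 + (-1) * Nat.card (sgp D φ) := by
    have : (1 : ℤ) ≤ m 0 := by exact_mod_cast hm1
    nlinarith
  have hodd1 : o * d = 1 := by
    by_contra hne
    have h2 : (2 : ℤ) ≤ o * d := by
      have := Nat.mul_pos ho hd1
      exact_mod_cast (show 2 ≤ o * d by omega)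
    nlinarith [Int.natCast_nonneg T]
  obtain ⟨ho1, hdone⟩ : o = 1 ∧ d = 1 :=
    ⟨Nat.eq_one_of_mul_eq_one_right hodd1, Nat.eq_one_of_mul_eq_one_left hodd1⟩
  rw [ho1, hdone] at hdegEq
  simp only [Nat.cast_one, one_mul] at hdegEq
  have hA1 : m 0 = 1 := by
    by_contra hne
    have : (2 : ℤ) ≤ m 0 := by exact_mod_cast (show 2 ≤ m 0 by omega)
    nlinarith [Int.natCast_nonneg T]
  have hT0 : T = 0 := by
    by_contra hne
    have : (1 : ℤ) ≤ T := by exact_mod_cast Nat.pos_of_ne_zero hne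
    rw [hA1] at hdegEq
    push_cast at hdegEq
    nlinarith
  have hScard2 : Nat.card (sgp D φ) = 2 := by
    rw [hA1, hT0] at hdegEq
    push_cast at hdegEq
    omega
  have horder : orderOf u = 2 := by rw [← he, ho1, hScard2]
  have hrp : 2 * r + 1 = p := by
    have h3 : r * Nat.card (sgp D φ) = p - 1 := by
      rw [hr, ← Subgroup.index, Subgroup.index_mul_card, Nat.card_eq_fintype_card, ZMod.card_units]
    rw [hScard2] at h3
    omega
  -- the pair
  have hneg : ∀ v ∈ (sgp D φ), v = 1 ∨ v = -1 := by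
    intro v hv
    have h1 : (⟨v, hv⟩ : (sgp D φ)) ^ 2 = 1 := hScard2 ▸ pow_card_eq_one'
    have h2 : (v : ZMod p) ^ 2 = 1 := by simpa using congrArg (fun x : (sgp D φ) => ((x : (ZMod p)ˣ) : ZMod p)) h1
    rcases sq_eq_one_iff.1 h2 with h' | h'
    · exact Or.inl (Units.ext h')
    · exact Or.inr (Units.ext (by simpa using h'))
  have hnegmem : (-1 : (ZMod p)ˣ) ∈ sgp D φ := by
    haveI : Nontrivial (sgp D φ) := Finite.one_lt_card_iff_nontrivial.1 (by omega)
    obtain ⟨⟨v, hv⟩, hv1⟩ := exists_ne (1 : (sgp D φ))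
    rcases hneg v hv with rfl | rfl
    · exact absurd (Subtype.ext rfl) hv1
    · exact hv
  have h2ne : (-1 : (ZMod p)ˣ) ≠ 1 := fun e => by
    have h2 : ((2 : ℕ) : ZMod p) = 0 := by
      push_cast
      rw [← one_add_one_eq_two]
      nth_rw 1 [← Units.val_one, ← e]
      simp
    rw [ZMod.natCast_eq_zero_iff] at h2
    have := Nat.le_of_dvd two_pos h2
    omega
  have hsS : ∀ (j : (ZMod p)ˣ) (i : ZMod p),
      sS (S := (sgp D φ)) ζ (j : (ZMod p)ˣ ⧸ (sgp D φ)) i = cs ζ (i * (j : ZMod p)) := by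
    intro j i
    have hset : (Finset.univ.filter fun l : (ZMod p)ˣ => (l : (ZMod p)ˣ ⧸ (sgp D φ)) = j) = {j, -j} := by
      ext l
      simp only [Finset.mem_filter, Finset.mem_univ, true_and, Finset.mem_insert, Finset.mem_singleton,
        QuotientGroup.eq]
      constructor
      · intro hl
        rcases hneg _ hl with h' | h'
        · exact Or.inl (inv_mul_eq_one.1 h')
        · exact Or.inr (by rw [inv_mul_eq_iff_eq_mul] at h'; rw [h']; simp)
      · rintro (rfl | rfl)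
        · simp [one_mem]
        · simpa using hnegmem
    rw [sS, ← Finset.sum_filter, hset, Finset.sum_pair (fun e => h2ne (by
      have := congrArg (fun x => j⁻¹ * x) e
      simpa using this.symm)), cs, Units.val_neg, mul_neg]
  -- the two shapes of the coordinates
  have hκ1 : κ ≤ 1 := by
    have h1 := hd.s_eq
    rw [← hr] at h1
    have hκm : κ = 1 + c₀ := by simp [κ, hA1]
    by_contra hlt
    have h2 : (2 : ℤ) ≤ κ := by omega
    nlinarith [show (2 : ℤ) ≤ r by exact_mod_cast hr2]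
  have hshape : ∃ j : (ZMod p)ˣ, ∀ i : ZMod p, i ≠ 0 → dd D φ χ i = -cs ζ (i * (j : ZMod p)) := by
    have h1 := hd.s_eq
    rw [← hr] at h1
    have hκm : κ = 1 + c₀ := by simp [κ, hA1]
    rcases (show κ = 0 ∨ κ = 1 by omega) with hκ0 | hκ0
    · -- the values are `1 + (r - 1) (ζ + ζ⁻¹)`
      have hc : c₀ = -1 := by omega
      have hε : ε = (r : ℤ) - 1 := by rw [hc] at h1; linarith
      rcases eq_or_lt_of_le hr2 with hr' | hr'
      · refine ⟨j₁, fun i hi => ?_⟩
        have h2 := sum_sS (S := (sgp D φ)) hζ hi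
        have hcard : (Finset.univ : Finset ((ZMod p)ˣ ⧸ (sgp D φ))) = {J, J'} := by
          refine (Finset.eq_of_subset_of_card_le (Finset.subset_univ _) ?_).symm
          rw [Finset.card_pair hJ'.symm, Finset.card_univ, ← Nat.card_eq_fintype_card]
          omega
        rw [hcard, Finset.sum_pair hJ'.symm, ← hj₁, hsS] at h2
        rw [hval i hi, hc, hε, ← hr']
        push_cast
        linear_combination h2
      · exfalso
        have hb : ∀ i : ZMod p, i ≠ 0 →
            ∑ J : (ZMod p)ˣ ⧸ (sgp D φ), Complex.normSq ((1 : ℂ) + ((r : ℂ) - 1) * sS ζ J i) ≤ (p : ℝ) := by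
          intro i hi
          haveI := Fintype.ofFinite (Cfsg.IrrCharacter G)
          have h2 := congrArg Complex.re (sum_dd_mul_conj D φ hi hi)
          rw [if_pos ⟨1, one_mem _, by simp⟩, Complex.re_sum, Complex.natCast_re] at h2
          simp only [Complex.mul_conj, Complex.ofReal_re] at h2
          rw [← h2, ← Finset.sum_congr rfl fun J _ => show
            Complex.normSq (dd D φ (θ J) i) = Complex.normSq ((1 : ℂ) + ((r : ℂ) - 1) * sS ζ J i) by
              rw [hd.value_Y J i hi, hc, hε]; push_cast; ring_nf]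
          rw [← Finset.sum_image (f := fun χ => Complex.normSq (dd D φ χ i)) hd.inj.injOn]
          exact Finset.sum_le_sum_of_subset_of_nonneg (Finset.subset_univ _)
            fun χ _ _ => Complex.normSq_nonneg _
        have hJs : ∀ J : (ZMod p)ˣ ⧸ sgp D φ,
            (∑ i : (ZMod p)ˣ, Complex.normSq ((1 : ℂ) + ((r : ℂ) - 1) * sS ζ J (i : ZMod p))) =
              ((p : ℝ) - 1) - 4 * ((r : ℝ) - 1) + ((r : ℝ) - 1) ^ 2 * (2 * (p : ℝ) - 4) := by
          intro J
          obtain ⟨j, rfl⟩ := QuotientGroup.mk_surjective J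
          apply Complex.ofReal_injective
          simp only [hsS, Complex.ofReal_sum, ← Complex.mul_conj, map_add, map_mul, map_one, map_sub,
            Complex.conj_natCast, conj_cs hζ]
          rw [Finset.sum_congr rfl fun (i : (ZMod p)ˣ) _ => show
            ((1 : ℂ) + ((r : ℂ) - 1) * cs ζ ((i : ZMod p) * (j : ZMod p))) *
                (1 + ((r : ℂ) - 1) * cs ζ ((i : ZMod p) * (j : ZMod p))) =
              1 + 2 * ((r : ℂ) - 1) * cs ζ ((i : ZMod p) * (j : ZMod p)) +
                ((r : ℂ) - 1) ^ 2 * (cs ζ ((i : ZMod p) * (j : ZMod p)) * cs ζ ((i : ZMod p) * (j : ZMod p))) by ring,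
            Finset.sum_add_distrib, Finset.sum_add_distrib, ← Finset.mul_sum, ← Finset.mul_sum,
            sum_cs hζ, if_neg j.ne_zero, sum_cs_sq hζ (by omega) j.ne_zero, Finset.sum_const,
            Finset.card_univ, ZMod.card_units_eq_totient, Nat.totient_prime hp, nsmul_eq_mul,
            Nat.cast_sub hp.one_le]
          push_cast
          ring
        have h2 := Finset.sum_le_sum (s := (Finset.univ : Finset (ZMod p)ˣ))
          (fun i _ => hb (i : ZMod p) i.ne_zero)
        rw [Finset.sum_comm, Finset.sum_congr rfl fun J _ => hJs J, Finset.sum_const, Finset.sum_const,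
          Finset.card_univ, Finset.card_univ, ← Nat.card_eq_fintype_card, ← hr,
          ZMod.card_units_eq_totient, Nat.totient_prime hp, nsmul_eq_mul, nsmul_eq_mul,
          Nat.cast_sub hp.one_le] at h2
        have hp' : (p : ℝ) = 2 * r + 1 := by exact_mod_cast hrp.symm
        have hr3 : (3 : ℝ) ≤ r := by exact_mod_cast hr'
        rw [hp'] at h2
        push_cast at h2
        nlinarith [mul_le_mul_of_nonneg_left hr3 (by linarith : (0 : ℝ) ≤ r)]
    · -- the values are `-(ζ + ζ⁻¹)`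
      have hc : c₀ = 0 := by omega
      have hε : ε = -1 := by rw [hc] at h1; omega
      refine ⟨j₀, fun i hi => ?_⟩
      rw [hval i hi, hc, hε, ← hj₀, hsS]
      push_cast; ring
  obtain ⟨jχ, hjχ⟩ := hshape
  -- `φ` is the only constituent
  have hmem : φ ∈ orb D φ := (mem_orb D).2 ⟨1, cjI_one D φ⟩
  have horb : orb D φ = {φ} := by
    obtain ⟨φ₀, hφ₀⟩ := Finset.card_eq_one.1 ho1
    rw [hφ₀, Finset.mem_singleton] at hmem
    rw [hφ₀, hmem]
  have hother : ∀ φ', φ' ≠ φ → ∀ i : ZMod p, dd D φ' χ i = 0 := by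
    intro φ' hne i
    have h' : φ' ∉ orb D φ := by rw [horb, Finset.mem_singleton]; exact hne
    by_cases hi : i = 0
    · subst hi
      rw [hout φ' h']
      have h1 := Finset.sum_eq_zero_iff.1 hT0 φ' (Finset.mem_sdiff.2 ⟨Finset.mem_univ _, h'⟩)
      rw [mul_eq_zero.1 h1 |>.resolve_right (charDegree_pos φ').ne', mul_zero, Nat.cast_zero]
    · exact hzero φ' h' i hi
  have hvalue : ∀ (i : ZMod p) (k : K),
      (χ : G → ℂ) (g ^ i.val * k) = dd D φ χ i * (φ : K → ℂ) k := by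
    intro i k
    rw [value_eq_sum D χ i k]
    exact Finset.sum_eq_single φ (fun φ' _ hne => by rw [hother φ' hne, zero_mul]) (by simp)
  have hφ1 : (φ : K → ℂ) 1 = 1 := by rw [← charDegree_cast, show Cfsg.charDegree (φ : K → ℂ) = 1 from hdone]; simp
  have hdd0 : dd D φ χ 0 = ((p - 2 : ℕ) : ℂ) := by
    rw [hm0, hA1, hScard2, Nat.cast_sub (by omega)]; push_cast; ring
  have hK : ∀ k : K, (χ : G → ℂ) k = ((p - 2 : ℕ) : ℂ) * (φ : K → ℂ) k := by
    intro k
    have h1 := hvalue 0 k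
    rwa [ZMod.val_zero, pow_zero, one_mul, hdd0] at h1
  have hKle : K ≤ Subgroup.center G := fun k hk => by
    refine scalar_of_norm χ.2 hfaith ?_
    have h1 := CharTheory.Basics.char_norm_eq_one (irr_isCharacter φ) hφ1 ⟨k, hk⟩
    rw [Complex.mul_conj'] at h1
    have h2 : ‖(φ : K → ℂ) ⟨k, hk⟩‖ ^ 2 = 1 := by exact_mod_cast h1
    rw [hK ⟨k, hk⟩, hdeg, norm_mul,
      (sq_eq_one_iff.1 h2).resolve_right fun e => by linarith [norm_nonneg ((φ : K → ℂ) ⟨k, hk⟩)],
      mul_one]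
  have hKeq : K = Subgroup.center G := le_antisymm hKle fun z hz => by
    have hzC : z ∈ Subgroup.centralizer ((P : Subgroup G) : Set G) :=
      Subgroup.mem_centralizer_iff.2 fun x _ => Subgroup.mem_center_iff.1 hz x
    obtain ⟨i, k, hk, e⟩ := D.decomp z hzC
    have hgi : g ^ i ∈ Subgroup.center G := by
      rw [show g ^ i = z * k⁻¹ by rw [e, mul_inv_cancel_right]]
      exact mul_mem hz (inv_mem (hKle hk))
    by_cases hpi : p ∣ i
    · obtain ⟨t, rfl⟩ := hpi
      rw [pow_mul, ← D.order, pow_orderOf_eq_one, one_pow, one_mul] at e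
      exact e ▸ hk
    · exact absurd (by
        obtain ⟨t, -, ht⟩ := Nat.exists_mul_mod_eq_one_of_coprime
          ((hp.coprime_iff_not_dvd.2 hpi).symm) hp.one_lt
        rw [← D.order] at ht
        have := pow_mem hgi t
        rwa [← pow_mul, ← pow_mod_orderOf, ht, pow_one] at this) hgc
  subst hKeq
  choose σ hσ1 hσ2 using haut
  set η := Complex.exp (2 * Real.pi * Complex.I / ((P : Subgroup G).index : ℂ)) with hηdef
  have hη : IsPrimitiveRoot η (P : Subgroup G).index :=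
    Complex.isPrimitiveRoot_exp _ Subgroup.index_ne_zero_of_finite
  have hu : u = -1 := by
    have h1 : (u : ZMod p) ^ 2 = 1 := by
      rw [← horder, ← Units.val_pow_eq_pow_val, pow_orderOf_eq_one, Units.val_one]
    rcases sq_eq_one_iff.1 h1 with h' | h'
    · rw [show u = 1 from Units.ext h', orderOf_one] at horder
      omega
    · exact Units.ext (by simpa using h')
  haveI := Fintype.ofFinite G
  refine ⟨{
    two_lt := h5, g := g, ζ := ζ, prim := hζ, order := D.order, gen := D.gen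
    not_dvd_center := D.not_dvd
    regular_or_conj := fun a => ?_
    decomp := fun c hc => ?_
    unique := fun hk hl e => decomp_unique D hk hl e
    regular_center := fun k hk => ((D.mem_iff k).1 hk).1
    singular := fun i hi k hk => ?_
    weight := fun n hn => ⟨wt D ⟨n, hn⟩, wt_spec D ⟨n, hn⟩⟩
    card_normalizer := ?_
    invert := ⟨h, ?_⟩
    w := fun k => (χ : G → ℂ) k / (χ : G → ℂ) 1
    w_mul := fun k hk b => ?_
    fam := fun j => ⟨fun a => σ (j * jχ⁻¹) ((χ : G → ℂ) a), BlockCharsA.PConjugate.isIrr_aut _ χ.2⟩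
    fam_reg := fun j a ha => aut_fix_regular D hη (hσ1 _) χ ha
    fam_sing := fun j i hi k hk => ?_
    val_g := ⟨jχ, fun i hi => ?_⟩ }⟩
  · rcases D.regular_or_conj a with h' | ⟨n, hn, k, hk, hc⟩
    · exact Or.inl h'
    · refine Or.inr ⟨n, fun h' => hn ((ZMod.natCast_eq_zero_iff _ _).1 h'), k, hk, ?_⟩
      rwa [pow_eq_of_natCast D.order (ZMod.natCast_rightInverse (n : ZMod p))]
  · obtain ⟨i, k, hk, e⟩ := D.decomp c hc
    exact ⟨i, k, hk, by rw [e, pow_eq_of_natCast D.order (ZMod.natCast_rightInverse (i : ZMod p))]⟩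
  · have hcom : Commute (g ^ i.val) k := (Subgroup.mem_center_iff.1 hk _)
    have hgi : orderOf (g ^ i.val) = p := D.orderOf_pow (val_ne_zero_of_ne hi)
    rw [hcom.orderOf_mul_eq_mul_orderOf_of_coprime (by
      rw [hgi]; exact hp.coprime_iff_not_dvd.2 ((D.mem_iff k).1 hk).1), hgi]
    exact dvd_mul_right _ _
  · have h1 := Subgroup.card_mul_index
      ((Subgroup.centralizer ((P : Subgroup G) : Set G)).subgroupOf
        (Subgroup.normalizer ((P : Subgroup G) : Set G)))
    rw [← Subgroup.relIndex, ← D.order_u, horder, Nat.card_congr (Subgroup.subgroupOfEquivOfLe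
      (Subgroup.centralizer_le_normalizer _)).toEquiv, card_centralizer D] at h1
    rw [← h1]; ring
  · rw [D.conj_h, hu, eq_inv_iff_mul_eq_one, ← pow_succ, ← pow_zero g]
    exact pow_eq_of_natCast D.order (by push_cast [ZMod.natCast_val, ZMod.cast_id]; simp)
  · obtain ⟨c', -, hc'⟩ := central_mul χ.2 hk
    have h1 := hc' 1
    rw [one_mul] at h1
    rw [hc', h1, mul_div_assoc, div_self (irr_one_ne_zero χ.2), mul_one]
  · have hne : ((p - 2 : ℕ) : ℂ) ≠ 0 := by rw [← hdeg]; exact irr_one_ne_zero χ.2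
    show σ (j * jχ⁻¹) ((χ : G → ℂ) (g ^ i.val * k)) = -((χ : G → ℂ) k / (χ : G → ℂ) 1 * _)
    rw [hvalue i ⟨k, hk⟩, hjχ i hi, map_mul, map_neg, aut_fix_K D hη (hσ1 _) φ ⟨k, hk⟩, hK ⟨k, hk⟩,
      hdeg, cs, cs, map_add, aut_zexp hζ (hσ2 _), aut_zexp hζ (hσ2 _)]
    have hjj : ((j * jχ⁻¹ : (ZMod p)ˣ) : ZMod p) * (i * (jχ : ZMod p)) = i * (j : ZMod p) := by
      rw [Units.val_mul]
      calc (j : ZMod p) * (jχ⁻¹ : (ZMod p)ˣ) * (i * (jχ : ZMod p))
          = i * (j : ZMod p) * ((jχ⁻¹ : (ZMod p)ˣ) * (jχ : ZMod p)) := by ring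
        _ = i * (j : ZMod p) := by rw [Units.inv_mul, mul_one]
    rw [mul_neg, hjj, mul_div_cancel_left₀ _ hne]
    ring
  · have h1 := hvalue i 1
    rwa [hjχ i hi, hφ1, mul_one, Subgroup.coe_one, mul_one] at h1

end Cfsg.Agent.PrimeBlock.SubTwo
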