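import Cfsg.Agent.Lib.CharTheory.DegreeThree.Basic
import Cfsg.Agent.BlockCharsA.PConjugate
import Cfsg.Agent.BlockCharsA.AlgAut
import Cfsg.Agent.Lib.Blocks.Defect

/-!
# Alternating squares, and twisting characters by a power map
-/

set_option autoImplicit false
set_option linter.style.haveILetI false
set_option linter.unusedSectionVars false

namespace Cfsg.Agent.PrimeBlock.SubTwo

open Cfsg.Agent.Characters
open Cfsg.Agent.Blocks (charDegree_cast charDegree_pos)
open Cfsg.Agent.CharTheory.DegreeThree (formRep)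
open Cfsg.Agent.FrobeniusSchur (mat act act_apply trn trace_act trace_trn_act)
open scoped ComplexConjugate

universe u

variable {G : Type u} [Group G]

/-- The alternating square of a character is a character. -/
theorem isCharacter_altSquare [Finite G] {χ : G → ℂ} (hχ : Cfsg.IsCharacter G χ) :
    Cfsg.IsCharacter G (fun g => (χ g ^ 2 - χ (g * g)) / 2) := by
  obtain ⟨n, ρ, rfl⟩ := hχ
  let T : Matrix (Fin n) (Fin n) ℂ →ₗ[ℂ] Matrix (Fin n) (Fin n) ℂ :=
    (2 : ℂ)⁻¹ • (LinearMap.id - trn)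
  have hcomm : ∀ (g : G) (M : Matrix (Fin n) (Fin n) ℂ), T (formRep ρ g M) = formRep ρ g (T M) := by
    intro g M
    show (2 : ℂ)⁻¹ • (act ρ g⁻¹ M - (act ρ g⁻¹ M).transpose) =
      act ρ g⁻¹ ((2 : ℂ)⁻¹ • (M - M.transpose))
    rw [map_smul, map_sub]
    congr 2
    simp [act_apply, Matrix.transpose_mul, Matrix.mul_assoc]
  have hTT : ∀ M, T (T M) = T M := by
    intro M
    show (2 : ℂ)⁻¹ • (((2 : ℂ)⁻¹ • (M - M.transpose)) - ((2 : ℂ)⁻¹ • (M - M.transpose)).transpose) =
      (2 : ℂ)⁻¹ • (M - M.transpose)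
    rw [Matrix.transpose_smul, Matrix.transpose_sub, Matrix.transpose_transpose, ← neg_sub M M.transpose,
      smul_neg, sub_neg_eq_add,
      ← two_smul ℂ ((2 : ℂ)⁻¹ • (M - M.transpose)), smul_smul, inv_mul_cancel₀ two_ne_zero, one_smul]
  let σ : Representation ℂ G (LinearMap.range T) :=
    { toFun := fun g => (formRep ρ g).restrict (p := LinearMap.range T) (q := LinearMap.range T)
        fun M hM => by
          obtain ⟨N, rfl⟩ := hM
          exact ⟨formRep ρ g N, hcomm g N⟩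
      map_one' := by
        refine LinearMap.ext fun M => Subtype.ext ?_
        simp
      map_mul' := fun g h => by
        refine LinearMap.ext fun M => Subtype.ext ?_
        simp }
  have hσ : ∀ g, σ.character g = ((ρ.character g⁻¹) ^ 2 - ρ.character (g⁻¹ * g⁻¹)) / 2 := by
    intro g
    have h1 : σ g = (T.rangeRestrict ∘ₗ formRep ρ g) ∘ₗ (LinearMap.range T).subtype := by
      refine LinearMap.ext fun M => Subtype.ext ?_
      obtain ⟨_, N, rfl⟩ := M
      show formRep ρ g (T N) = T (formRep ρ g (T N))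
      rw [hcomm g (T N), hTT]
    show LinearMap.trace ℂ _ (σ g) = _
    rw [h1, LinearMap.trace_comp_comm']
    have h2 : (LinearMap.range T).subtype ∘ₗ (T.rangeRestrict ∘ₗ formRep ρ g) =
        (2 : ℂ)⁻¹ • (act ρ g⁻¹ - trn ∘ₗ act ρ g⁻¹) := by
      refine LinearMap.ext fun M => ?_
      rfl
    rw [h2, map_smul, map_sub, trace_act, trace_trn_act, smul_eq_mul]
    ring
  have := isCharacter_conj (isCharacter_character σ)
  convert this using 1
  funext g
  rw [hσ g, ← mul_inv_rev, rep_char_inv, rep_char_inv]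
  simp [map_ofNat]

/-- A character value on a power coprime to the group order is a Galois conjugate of the value. -/
theorem exists_aut_pow [Finite G] {W : ℕ} (hW : W.Coprime (Nat.card G)) :
    ∃ σ : ℂ ≃+* ℂ, ∀ χ : G → ℂ, Cfsg.IsCharacter G χ → ∀ a : G, σ (χ a) = χ (a ^ W) := by
  classical
  set N := Nat.card G with hN
  haveI : NeZero N := ⟨Nat.card_pos.ne'⟩
  have hξ := Complex.isPrimitiveRoot_exp N (NeZero.ne N)
  obtain ⟨σ, hσ⟩ := BlockCharsA.AlgAut.exists_aut hξ (ZMod.unitOfCoprime W hW)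
  rw [ZMod.coe_unitOfCoprime, ZMod.val_natCast, ← pow_eq_pow_mod _ hξ.pow_eq_one] at hσ
  refine ⟨σ, ?_⟩
  rintro χ ⟨n, ρ, rfl⟩ a
  obtain ⟨w, hw, h⟩ := exists_rootsOfUnity_sum ρ a
  have h1 := h 1
  simp only [pow_one] at h1
  rw [h1, h W, map_sum]
  refine Finset.sum_congr rfl fun i _ => ?_
  have hwN : w i ^ N = 1 := by
    obtain ⟨c, hc⟩ := orderOf_dvd_natCard a
    rw [hN, hc, pow_mul, hw, one_pow]
  obtain ⟨e, -, he⟩ := hξ.eq_pow_of_pow_eq_one hwN
  rw [← he, map_pow, hσ, ← pow_mul, ← pow_mul, mul_comm W]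

/-- The twist of an irreducible character by a power map of exponent coprime to the group order. -/
theorem isIrr_comp_pow [Finite G] {W : ℕ} (hW : W.Coprime (Nat.card G)) {χ : G → ℂ}
    (hχ : Cfsg.IsIrrCharacter G χ) : Cfsg.IsIrrCharacter G (fun a => χ (a ^ W)) := by
  haveI := Fintype.ofFinite G
  obtain ⟨σ, hσ⟩ := exists_aut_pow hW
  have := BlockCharsA.PConjugate.isIrr_aut σ hχ
  simpa only [hσ χ (isCharacter_of_isIrr hχ)] using this

/-- A character having every member of a set of irreducible characters as a constituent, of the same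
degree as their sum, is their sum. -/
theorem eq_sum_of_degree [Fintype G] {Φ : G → ℂ} (hΦ : Cfsg.IsCharacter G Φ)
    (T : Finset (Cfsg.IrrCharacter G)) (hT : ∀ ψ ∈ T, Cfsg.classInner Φ (ψ : G → ℂ) ≠ 0)
    (hdeg : ∑ ψ ∈ T, (ψ : G → ℂ) 1 = Φ 1) (a : G) : Φ a = ∑ ψ ∈ T, (ψ : G → ℂ) a := by
  classical
  haveI := Fintype.ofFinite (Cfsg.IrrCharacter G)
  obtain ⟨n, hn⟩ := char_eq_sum_nat hΦ
  have hnT : ∀ ψ ∈ T, 1 ≤ n ψ := by
    intro ψ hψ
    by_contra h0
    refine hT ψ hψ ?_
    rw [hn, classInner_sum_smul_irr (c := fun ξ => (n ξ : ℂ)) Finset.univ ψ,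
      if_pos (Finset.mem_univ _)]
    simp [show n ψ = 0 by omega]
  have hd : ∑ ψ ∈ T, Cfsg.charDegree (ψ : G → ℂ) =
      ∑ ψ : Cfsg.IrrCharacter G, n ψ * Cfsg.charDegree (ψ : G → ℂ) := by
    apply Nat.cast_injective (R := ℂ)
    push_cast
    simp only [charDegree_cast]
    rw [hdeg, hn]
    simp [Finset.sum_apply]
  have key : ∀ ψ, n ψ = if ψ ∈ T then 1 else 0 := by
    have hle : ∀ ψ ∈ (Finset.univ : Finset (Cfsg.IrrCharacter G)),
        (if ψ ∈ T then Cfsg.charDegree (ψ : G → ℂ) else 0) ≤ n ψ * Cfsg.charDegree (ψ : G → ℂ) := by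
      intro ψ _
      split_ifs with h
      · exact Nat.le_mul_of_pos_left _ (hnT ψ h)
      · exact Nat.zero_le _
    have h := (Finset.sum_eq_sum_iff_of_le hle).1 (by
      rw [Finset.sum_ite_mem, Finset.univ_inter]; exact hd)
    intro ψ
    have h1 := h ψ (Finset.mem_univ _)
    have hpos := charDegree_pos ψ
    split_ifs at h1 ⊢ with hψ
    · exact (Nat.eq_of_mul_eq_mul_right hpos (by rw [one_mul]; exact h1.symm))
    · exact (Nat.mul_eq_zero.1 h1.symm).resolve_right hpos.ne'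
  rw [hn]
  simp [Finset.sum_apply, key, apply_ite (fun f : G → ℂ => f a)]

end Cfsg.Agent.PrimeBlock.SubTwo
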