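import Cfsg.Agent.Lib.PrimeBlock.SubTwo.Sums
import Cfsg.Agent.Lib.PrimeBlock.SubTwo.Squares

/-!
# The squares of the exceptional character, when the centre has odd order

`W` is a multiplier equal to `2` on elements of odd order prime to `p` and to `1` on `2`-elements and
on elements of order `p`.  The twisted exceptional characters absorb the alternating square.
-/

set_option autoImplicit false
set_option linter.style.haveILetI false
set_option linter.unusedSectionVars false

namespace Cfsg.Agent.PrimeBlock.SubTwo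

open Cfsg.Agent.Characters Cfsg.Agent.Blocks
open scoped ComplexConjugate

universe u

/-- The defining property of the exponent. -/
structure Twist (G : Type u) [Group G] (p W : ℕ) : Prop where
  coprime : W.Coprime (Nat.card G)
  sq : ∀ a : G, Odd (orderOf a) → ¬ p ∣ orderOf a → a ^ W = a ^ 2
  fix : ∀ a : G, ((∃ k : ℕ, orderOf a = 2 ^ k) ∨ orderOf a = p) → a ^ W = a

theorem exists_twist (G : Type u) [Group G] [Finite G] (p : ℕ) [Fact p.Prime] (hp : p ≠ 2) :
    ∃ W, Twist G p W := by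
  have hpp : p.Prime := Fact.out
  obtain ⟨α, q₁, hq₁, hN⟩ := Nat.exists_eq_pow_mul_and_not_dvd (Nat.card_pos (α := G)).ne' 2 (by norm_num)
  have hq₁0 : q₁ ≠ 0 := fun e => hq₁ (by rw [e]; exact dvd_zero 2)
  obtain ⟨β, q, hq, hq₁'⟩ := Nat.exists_eq_pow_mul_and_not_dvd hq₁0 p hpp.ne_one
  set m := 2 ^ α * p ^ β * p
  have h2q : ¬ 2 ∣ q := fun h => hq₁ (hq₁' ▸ h.mul_left _)
  have hcop : q.Coprime m := by
    refine Nat.Coprime.mul_right (Nat.Coprime.mul_right ?_ ?_) ?_
    · exact (Nat.prime_two.coprime_iff_not_dvd.2 h2q).symm.pow_right α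
    · exact (hpp.coprime_iff_not_dvd.2 hq).symm.pow_right β
    · exact (hpp.coprime_iff_not_dvd.2 hq).symm
  obtain ⟨W, hWq, hWm⟩ := Nat.chineseRemainder hcop 2 1
  refine ⟨W, ⟨?_, fun a ha hpa => ?_, fun a ha => ?_⟩⟩
  · have h1 : W.Coprime m := by
      show Nat.gcd W m = 1
      rw [hWm.gcd_eq]; exact Nat.gcd_one_left m
    have h2 : W.Coprime q := by
      show Nat.gcd W q = 1
      rw [hWq.gcd_eq]; exact Nat.prime_two.coprime_iff_not_dvd.2 h2q
    rw [hN, hq₁', ← mul_assoc]
    exact ((Nat.Coprime.coprime_dvd_right (dvd_mul_right _ p) h1)).mul_right h2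
  · rw [pow_eq_pow_iff_modEq]
    refine Nat.ModEq.of_dvd ?_ hWq
    have h1 : orderOf a ∣ 2 ^ α * (p ^ β * q) := hq₁' ▸ hN ▸ orderOf_dvd_natCard a
    have h2 : (orderOf a).Coprime 2 :=
      (Nat.prime_two.coprime_iff_not_dvd.2 (fun h => by
        rw [← even_iff_two_dvd, ← Nat.not_odd_iff_even] at h; exact h ha)).symm
    exact (((hpp.coprime_iff_not_dvd.2 hpa).symm).pow_right β).dvd_of_dvd_mul_left
      ((h2.pow_right α).dvd_of_dvd_mul_left h1)
  · conv_rhs => rw [← pow_one a]
    rw [pow_eq_pow_iff_modEq]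
    refine Nat.ModEq.of_dvd ?_ hWm
    rcases ha with ⟨k, hk⟩ | hk
    · have h1 : 2 ^ k ∣ 2 ^ α * (p ^ β * q) := hk ▸ hq₁' ▸ hN ▸ orderOf_dvd_natCard a
      have h2 : (2 ^ k).Coprime (p ^ β * q) :=
        Nat.Coprime.pow_left k (Nat.prime_two.coprime_iff_not_dvd.2 (hq₁' ▸ hq₁))
      exact hk ▸ ((h2.dvd_of_dvd_mul_right h1).mul_right _).mul_right _
    · rw [hk]; exact dvd_mul_left _ _

variable {G : Type u} [Group G] [Fintype G] {p : ℕ} [Fact p.Prime] {P : Sylow p G}
  {χ : Cfsg.IrrCharacter G} (S : Setting P χ)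

theorem regular_pow {a : G} (ha : ¬ p ∣ orderOf a) (n : ℕ) : ¬ p ∣ orderOf (a ^ n) :=
  fun h => ha (h.trans (orderOf_pow_dvd n))

theorem regular_one : ¬ p ∣ orderOf (1 : G) := by simp [(Fact.out : p.Prime).ne_one]

theorem Setting.w_eq {k : G} (hk : k ∈ Subgroup.center G) :
    (χ : G → ℂ) k = S.w k * (χ : G → ℂ) 1 := by
  simpa using S.w_mul k hk 1

theorem Setting.w_norm {k : G} (hk : k ∈ Subgroup.center G) : S.w k * conj (S.w k) = 1 := by
  obtain ⟨c, hc, hc'⟩ := central_mul χ.2 hk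
  have h : S.w k = c := mul_right_cancel₀ (irr_one_ne_zero χ.2)
    ((S.w_eq hk).symm.trans (by simpa using hc' 1))
  rw [h, Complex.mul_conj', hc]; simp

theorem Setting.w_sq {k : G} (hk : k ∈ Subgroup.center G) : S.w (k * k) = S.w k * S.w k := by
  refine mul_right_cancel₀ (irr_one_ne_zero χ.2) ?_
  rw [← S.w_eq (mul_mem hk hk), S.w_mul k hk, S.w_eq hk]; ring

theorem Setting.fam_one_reg (j : (ZMod p)ˣ) : (S.fam j : G → ℂ) 1 = (χ : G → ℂ) 1 :=
  S.fam_reg j 1 regular_one

/-- Values on the centre and multiples by it. -/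
theorem Setting.fam_mul_center (j : (ZMod p)ˣ) {a k : G} (ha : ¬ p ∣ orderOf a)
    (hk : k ∈ Subgroup.center G) :
    (S.fam j : G → ℂ) (a * k) = S.w k * (S.fam j : G → ℂ) a := by
  rw [S.fam_reg j _ (orderOf_mul_not_dvd (Fact.out : p.Prime) (comm_center hk a) ha
    (S.regular_center k hk)), S.fam_reg j a ha, S.w_mul k hk]

/-- Class functions agree if they agree on the regular elements and on the representatives of the
singular ones. -/
theorem Setting.ext_fun {φ ψ : G → ℂ} (hφ : Cfsg.IsClassFunction G φ) (hψ : Cfsg.IsClassFunction G ψ)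
    (hreg : ∀ a : G, ¬ p ∣ orderOf a → φ a = ψ a)
    (hsing : ∀ i : ZMod p, i ≠ 0 → ∀ k ∈ Subgroup.center G,
      φ (S.g ^ i.val * k) = ψ (S.g ^ i.val * k)) : φ = ψ := by
  funext a
  rcases S.regular_or_conj a with h | ⟨i, hi, k, hk, hc⟩
  · exact hreg a h
  obtain ⟨c, hc⟩ := isConj_iff.1 hc
  rw [← hφ a c, ← hψ a c, hc]
  exact hsing i hi k hk

theorem two_unit_ne (h : 5 < p) : (2 : ZMod p) ≠ 0 := fun e => by
  have h2 : ((2 : ℕ) : ZMod p) = 0 := by simpa using e
  have := Nat.le_of_dvd two_pos ((ZMod.natCast_eq_zero_iff _ _).1 h2)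
  omega

variable {W : ℕ} (hW : Twist G p W)

/-- The twisted exceptional characters. -/
noncomputable def Setting.twisted (j : (ZMod p)ˣ) : Cfsg.IrrCharacter G :=
  ⟨fun a => (S.fam j : G → ℂ) (a ^ W), isIrr_comp_pow hW.coprime (S.fam j).2⟩

include hW in
theorem Setting.pow_W_sing (hodd : Odd (Nat.card (Subgroup.center G))) {i : ZMod p} (hi : i ≠ 0)
    {k : G} (hk : k ∈ Subgroup.center G) :
    (S.g ^ i.val * k) ^ W = S.g ^ i.val * (k * k) := by
  rw [(comm_center hk (S.g ^ i.val)).mul_pow, hW.fix _ (Or.inr (S.orderOf_pow hi)),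
    hW.sq k (hodd.of_dvd_nat ((Subgroup.center G).orderOf_dvd_natCard hk)) (S.regular_center k hk),
    pow_two]

theorem Setting.twisted_sing (hodd : Odd (Nat.card (Subgroup.center G))) (j : (ZMod p)ˣ)
    {i : ZMod p} (hi : i ≠ 0) {k : G} (hk : k ∈ Subgroup.center G) :
    (S.twisted hW j : G → ℂ) (S.g ^ i.val * k) = -(S.w k * S.w k * cs S.ζ (i * (j : ZMod p))) := by
  show (S.fam j : G → ℂ) ((S.g ^ i.val * k) ^ W) = _
  rw [S.pow_W_sing hW hodd hi hk, S.fam_sing j i hi _ (mul_mem hk hk), S.w_sq hk]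

theorem Setting.twisted_reg (j : (ZMod p)ˣ) {a : G} (ha : ¬ p ∣ orderOf a) :
    (S.twisted hW j : G → ℂ) a = (χ : G → ℂ) (a ^ W) :=
  S.fam_reg j _ (regular_pow ha W)

theorem Setting.twisted_eq_iff (hodd : Odd (Nat.card (Subgroup.center G))) (j l : (ZMod p)ˣ) :
    S.twisted hW j = S.twisted hW l ↔ (j : ZMod p) = l ∨ (j : ZMod p) = -(l : ZMod p) := by
  constructor
  · intro e
    by_contra hne
    have hv : ∀ i : (ZMod p)ˣ, cs S.ζ ((i : ZMod p) * (j : ZMod p)) = cs S.ζ ((i : ZMod p) * (l : ZMod p)) := by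
      intro i
      have h1 := congrFun (congrArg Subtype.val e) (S.g ^ (i : ZMod p).val * 1)
      have h2 := S.twisted_sing hW hodd j i.ne_zero (one_mem _)
      have h3 := S.twisted_sing hW hodd l i.ne_zero (one_mem _)
      rw [h2, h3, neg_inj] at h1
      refine mul_left_cancel₀ ?_ h1
      intro h0
      have h4 := S.w_norm (one_mem (Subgroup.center G))
      rw [(mul_self_eq_zero.1 h0)] at h4
      simp at h4
    have hp2 : p ≠ 2 := by have := S.two_lt; omega
    have h1 := sum_cs_mul S.prim hp2 (a := (j : ZMod p)) (b := j) j.ne_zero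
    have h2 := sum_cs_mul S.prim hp2 (a := (j : ZMod p)) (b := l) j.ne_zero
    rw [if_pos (Or.inl rfl), Finset.sum_congr rfl fun (i : (ZMod p)ˣ) _ => show
      cs S.ζ ((i : ZMod p) * (j : ZMod p)) * cs S.ζ ((i : ZMod p) * (j : ZMod p)) =
        cs S.ζ ((i : ZMod p) * (j : ZMod p)) * cs S.ζ ((i : ZMod p) * (l : ZMod p)) by rw [← hv i]] at h1
    rw [if_neg hne, h1] at h2
    have h3 : (2 * p : ℂ) = 0 := by linear_combination h2
    simp [(Fact.out : p.Prime).ne_zero] at h3
  · intro h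
    refine Subtype.ext (S.ext_fun (irr_isClassFunction _) (irr_isClassFunction _)
      (fun a ha => by rw [S.twisted_reg hW j ha, S.twisted_reg hW l ha]) fun i hi k hk => ?_)
    rw [S.twisted_sing hW hodd j hi hk, S.twisted_sing hW hodd l hi hk]
    rcases h with h | h <;> rw [h]
    simp only [cs, mul_neg, neg_neg, add_comm]

theorem twice_card_image [DecidableEq (Cfsg.IrrCharacter G)] (hodd : Odd (Nat.card (Subgroup.center G)))
    (U : Finset (ZMod p)ˣ) (hU : ∀ j ∈ U, -j ∈ U) :
    2 * (U.image (S.twisted hW)).card = U.card := by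
  classical
  rw [Finset.card_eq_sum_card_image (S.twisted hW) U, Finset.sum_congr rfl (g := fun _ => 2),
    Finset.sum_const, smul_eq_mul, mul_comm]
  intro b hb
  obtain ⟨j, hj, rfl⟩ := Finset.mem_image.1 hb
  have hne : j ≠ -j := fun e => by
    have h1 := congrArg (fun x : (ZMod p)ˣ => (x : ZMod p)) e
    rw [Units.val_neg, eq_neg_iff_add_eq_zero, ← two_mul] at h1
    exact mul_ne_zero (two_unit_ne S.two_lt) j.ne_zero h1
  rw [show (U.filter fun l => S.twisted hW l = S.twisted hW j) = {j, -j} from ?_, Finset.card_pair hne]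
  ext l
  simp only [Finset.mem_filter, Finset.mem_insert, Finset.mem_singleton, S.twisted_eq_iff hW hodd,
    ← Units.val_neg, Units.val_inj]
  exact ⟨fun h => h.2, fun h => ⟨h.elim (fun e => e ▸ hj) (fun e => e ▸ hU j hj), h⟩⟩

include S in
/-- The singular part of an inner product. -/
theorem Setting.sum_singular_div (F : G → ℂ) (hF : Cfsg.IsClassFunction G F) (c : (ZMod p)ˣ → ℂ)
    (hc : ∀ i : (ZMod p)ˣ, ∀ k ∈ Subgroup.center G, F (S.g ^ (i : ZMod p).val * k) = c i) :
    2 * (p : ℂ) * ∑ a ∈ Finset.univ.filter (fun a : G => p ∣ orderOf a), F a =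
      (Nat.card G : ℂ) * ∑ i : (ZMod p)ˣ, c i := by
  classical
  haveI := Fintype.ofFinite (Subgroup.center G)
  have h := S.sum_singular F hF
  rw [S.card_normalizer, Finset.sum_congr rfl fun i _ => Finset.sum_congr rfl fun (k : Subgroup.center G) _ =>
    hc i k k.2] at h
  simp only [Finset.sum_const, Finset.card_univ, nsmul_eq_mul, ← Nat.card_eq_fintype_card,
    ← Finset.mul_sum] at h
  push_cast at h
  exact mul_left_cancel₀ (natCard_ne_zero (G := Subgroup.center G)) (by linear_combination h)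

theorem classFun_sq {φ : G → ℂ} (hφ : Cfsg.IsClassFunction G φ) :
    Cfsg.IsClassFunction G fun a => φ (a * a) := fun a c => by
  show φ (c * a * c⁻¹ * (c * a * c⁻¹)) = φ (a * a)
  rw [show c * a * c⁻¹ * (c * a * c⁻¹) = c * (a * a) * c⁻¹ by group, hφ]

/-- The square of an element of the singular representatives. -/
theorem Setting.fam_sing_sq {i : ZMod p} (hi : i ≠ 0) {k : G} (hk : k ∈ Subgroup.center G) :
    (S.fam 1 : G → ℂ) (S.g ^ i.val * k * (S.g ^ i.val * k)) = -(S.w k * S.w k * cs S.ζ (i + i)) := by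
  have h1 : S.g ^ i.val * k * (S.g ^ i.val * k) = S.g ^ (i + i).val * (k * k) := by
    rw [mul_assoc, ← mul_assoc k, ← (comm_center hk (S.g ^ i.val)).eq, ← mul_assoc, ← mul_assoc,
      ← pow_add, mul_assoc]
    congr 1
    exact pow_eq_of_natCast S.order (by simp [Nat.cast_add, ZMod.natCast_rightInverse _])
  have h2 : i + i ≠ 0 := by rw [← two_mul]; exact mul_ne_zero (two_unit_ne S.two_lt) hi
  rw [h1, S.fam_sing 1 _ h2 _ (mul_mem hk hk), S.w_sq hk, Units.val_one, mul_one]

include S hW in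
/-- **The squaring recursion on the regular elements.** -/
theorem Setting.square_reg (hodd : Odd (Nat.card (Subgroup.center G)))
    (hdeg : (χ : G → ℂ) 1 = ((p - 2 : ℕ) : ℂ)) {a : G} (ha : ¬ p ∣ orderOf a) :
    (χ : G → ℂ) a ^ 2 - (χ : G → ℂ) (a * a) = ((p - 3 : ℕ) : ℂ) * (χ : G → ℂ) (a ^ W) := by
  classical
  haveI := Fintype.ofFinite (Cfsg.IrrCharacter G)
  have h5 := S.two_lt
  have hp2 : p ≠ 2 := by omega
  set A : G → ℂ := fun g => ((S.fam 1 : G → ℂ) g ^ 2 - (S.fam 1 : G → ℂ) (g * g)) / 2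
  have hA : Cfsg.IsCharacter G A := isCharacter_altSquare (irr_isCharacter _)
  set e : (ZMod p)ˣ := Units.mk0 2 (two_unit_ne h5)
  have hdiff : ∀ l : (ZMod p)ˣ, l ≠ e → l ≠ -e →
      Cfsg.classInner A (S.twisted hW l : G → ℂ) = Cfsg.classInner A (S.twisted hW e : G → ℂ) + 1 := by
    intro l hl hl'
    rw [← sub_eq_iff_eq_add', ← classInner_sub_right, classInner_def,
      ← Finset.sum_filter_add_sum_filter_not Finset.univ (fun g : G => p ∣ orderOf g),
      Finset.sum_eq_zero (s := Finset.univ.filter fun g : G => ¬ p ∣ orderOf g) fun g hg => by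
        have hg' := (Finset.mem_filter.1 hg).2
        rw [Pi.sub_apply, S.twisted_reg hW l hg', S.twisted_reg hW e hg', sub_self, map_zero,
          mul_zero], add_zero]
    have hsum := S.sum_singular_div
      (fun g => A g * conj (((S.twisted hW l : G → ℂ) - (S.twisted hW e : G → ℂ)) g))
      (fun g c => by
        simp only [Pi.sub_apply, char_isClassFunction hA g c, irr_isClassFunction _ g c])
      (fun i => -((1 + cs S.ζ ((i : ZMod p) * 2)) *
        (cs S.ζ ((i : ZMod p) * (l : ZMod p)) - cs S.ζ ((i : ZMod p) * 2)))) fun i k hk => by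
        have hww : S.w k * S.w k * conj (S.w k * S.w k) = 1 := by
          rw [map_mul]
          linear_combination (S.w k * conj (S.w k) + 1) * S.w_norm hk
        simp only [A, Pi.sub_apply, S.twisted_sing hW hodd _ i.ne_zero hk,
          S.fam_sing 1 _ i.ne_zero k hk, S.fam_sing_sq i.ne_zero hk, map_sub, map_neg, map_mul,
          conj_cs S.prim, Units.val_one, mul_one, e, Units.val_mk0]
        rw [neg_sq, mul_pow, pow_two (cs S.ζ (i : ZMod p)), cs_mul S.prim, sub_self,
          show (i : ZMod p) * 2 = (i : ZMod p) + (i : ZMod p) by ring]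
        simp only [map_mul] at hww
        have h0 : cs S.ζ (0 : ZMod p) = 2 := by simp [cs, zexp_zero]; norm_num
        rw [h0]
        linear_combination (-(1 + cs S.ζ ((i : ZMod p) + (i : ZMod p))) *
          (cs S.ζ ((i : ZMod p) * (l : ZMod p)) - cs S.ζ ((i : ZMod p) + (i : ZMod p)))) * hww
    simp only [neg_mul, ← mul_neg, add_mul, one_mul, mul_sub, neg_sub, Finset.sum_add_distrib,
      Finset.sum_sub_distrib, sum_cs S.prim, if_neg l.ne_zero, if_neg (two_unit_ne h5)] at hsum
    rw [sum_cs_mul S.prim hp2 (two_unit_ne h5), sum_cs_mul S.prim hp2 (two_unit_ne h5),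
      if_pos (Or.inl rfl), if_neg (fun h => h.elim (fun h => hl (Units.ext h.symm))
        (fun h => hl' (Units.ext (by simp [e, h]))))] at hsum
    have hN : (Nat.card G : ℂ) ≠ 0 := natCard_ne_zero
    have hp0 : (p : ℂ) ≠ 0 := Nat.cast_ne_zero.2 (Fact.out : p.Prime).ne_zero
    field_simp
    apply mul_left_cancel₀ (mul_ne_zero (two_ne_zero (α := ℂ)) hp0)
    linear_combination hsum
  set U := (Finset.univ : Finset (ZMod p)ˣ) \ {e, -e} with hU
  set T := U.image (S.twisted hW) with hT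
  have hcardT : 2 * T.card = p - 3 := by
    rw [hT, twice_card_image S hW hodd U fun j hj => by
      simp only [hU, Finset.mem_sdiff, Finset.mem_univ, true_and, Finset.mem_insert,
        Finset.mem_singleton, not_or] at hj ⊢
      exact ⟨fun h => hj.2 (by rw [← h, neg_neg]), fun h => hj.1 (neg_inj.1 h)⟩,
      hU, Finset.card_sdiff_of_subset (Finset.subset_univ _), Finset.card_univ,
      ZMod.card_units_eq_totient, Nat.totient_prime Fact.out, Finset.card_pair fun h => by
        have h1 := congrArg (fun x : (ZMod p)ˣ => (x : ZMod p)) h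
        rw [Units.val_neg, eq_neg_iff_add_eq_zero, ← two_mul] at h1
        exact mul_ne_zero (two_unit_ne h5) e.ne_zero h1]
    omega
  have hTne : ∀ ψ ∈ T, Cfsg.classInner A (ψ : G → ℂ) ≠ 0 := by
    intro ψ hψ
    obtain ⟨l, hl, rfl⟩ := Finset.mem_image.1 hψ
    simp only [hU, Finset.mem_sdiff, Finset.mem_univ, true_and, Finset.mem_insert,
      Finset.mem_singleton, not_or] at hl
    obtain ⟨n, hn⟩ := classInner_char_nat hA (irr_isCharacter (S.twisted hW e))
    rw [hdiff l hl.1 hl.2, hn]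
    exact_mod_cast (Nat.succ_ne_zero n)
  have hTdeg : ∑ ψ ∈ T, (ψ : G → ℂ) 1 = A 1 := by
    rw [Finset.sum_congr rfl (g := fun _ => ((p - 2 : ℕ) : ℂ)) fun ψ hψ => by
      obtain ⟨l, -, rfl⟩ := Finset.mem_image.1 hψ
      rw [S.twisted_reg hW l regular_one, one_pow, hdeg]]
    simp only [A, Finset.sum_const, nsmul_eq_mul, one_mul, S.fam_one_reg, hdeg]
    have h1 : (2 : ℂ) * T.card = ((p - 3 : ℕ) : ℂ) := by exact_mod_cast congrArg (Nat.cast (R := ℂ)) hcardT
    rw [Nat.cast_sub (by omega)] at h1 ⊢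
    push_cast at h1 ⊢
    linear_combination (((p : ℂ) - 2) / 2) * h1
  have := eq_sum_of_degree hA T hTne hTdeg a
  rw [Finset.sum_congr rfl (g := fun _ => (χ : G → ℂ) (a ^ W)) fun ψ hψ => by
      obtain ⟨l, -, rfl⟩ := Finset.mem_image.1 hψ
      exact S.twisted_reg hW l ha, Finset.sum_const, nsmul_eq_mul] at this
  simp only [A, S.fam_reg 1 a ha, S.fam_reg 1 (a * a) (by rw [← pow_two]; exact regular_pow ha 2)] at this
  rw [← hcardT]
  push_cast
  linear_combination 2 * this

end Cfsg.Agent.PrimeBlock.SubTwo
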