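import Cfsg.Agent.Lib.Characters.Kernel
import Cfsg.Agent.Lib.Characters.Inner
import Cfsg.Agent.Lib.Blocks.CentralDefect

/-!
# Scalar elements of a faithful character, and sums of unit vectors
-/

set_option autoImplicit false
set_option linter.unusedSectionVars false

namespace Cfsg.Agent.PrimeBlock.SubTwo

open Cfsg.Agent.Characters
open scoped ComplexConjugate

universe u

/-- Unit vectors whose sum has the largest possible length are equal. -/
theorem eq_of_norm_sum {ι : Type*} {s : Finset ι} {v : ι → ℂ} (hv : ∀ i ∈ s, ‖v i‖ = 1)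
    (hs : ‖∑ i ∈ s, v i‖ = (s.card : ℝ)) :
    ∀ i ∈ s, (s.card : ℂ) * v i = ∑ j ∈ s, v j := by
  intro i hi
  set S := ∑ j ∈ s, v j with hS
  set n : ℝ := (s.card : ℝ) with hn
  have hle : ∀ j ∈ s, (conj S * v j).re ≤ n := fun j hj =>
    (Complex.re_le_norm _).trans_eq (by rw [norm_mul, Complex.norm_conj, hs, hv j hj, mul_one])
  have hsum : ∑ j ∈ s, (conj S * v j).re = n * n := by
    rw [← Complex.re_sum, ← Finset.mul_sum, ← hS, Complex.conj_mul', hs, sq]
    norm_cast
  have heq : (conj S * v i).re = n := by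
    by_contra hne
    have := Finset.sum_lt_sum hle ⟨i, hi, lt_of_le_of_ne (hle i hi) hne⟩
    rw [hsum, Finset.sum_const, nsmul_eq_mul] at this
    exact lt_irrefl _ this
  have hnorm : ‖conj S * v i‖ = n := by rw [norm_mul, Complex.norm_conj, hs, hv i hi, mul_one]
  have him : (conj S * v i).im = 0 := by
    have h2 := Complex.sq_norm_sub_sq_re (conj S * v i)
    rw [hnorm, heq] at h2
    nlinarith
  have hval : conj S * v i = (n : ℂ) := Complex.ext (by simp [heq]) (by simp [him])
  have hvv : conj (v i) * v i = 1 := by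
    rw [Complex.conj_mul', hv i hi]; simp
  have hval' := congrArg conj hval
  rw [map_mul, Complex.conj_conj, Complex.conj_ofReal] at hval'
  calc (s.card : ℂ) * v i = S * conj (v i) * v i := by rw [hval', hn]; norm_cast
    _ = S := by rw [mul_assoc, hvv, mul_one]

variable {G : Type u} [Group G] [Finite G]

/-- A faithful character takes its degree in absolute value only at central scalars. -/
theorem scalar_of_norm {χ : G → ℂ} (hχ : Cfsg.IsIrrCharacter G χ) (hf : ∀ a, χ a = χ 1 → a = 1)
    {a : G} (ha : ‖χ a‖ = ‖χ 1‖) : a ∈ Subgroup.center G := by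
  obtain ⟨n, ρ, hρ, rfl⟩ := hχ
  have h1 : ρ.character 1 = (Module.finrank ℂ (Fin n → ℂ) : ℂ) := ρ.char_one
  obtain ⟨ω, hω⟩ := rep_apply_eq_smul_of_norm_eq ρ a (by rw [ha, h1, Complex.norm_natCast])
  have hinj : Function.Injective ρ := fun x y e => by
    refine inv_mul_eq_one.1 (hf _ ?_)
    show LinearMap.trace ℂ _ (ρ (x⁻¹ * y)) = LinearMap.trace ℂ _ (ρ 1)
    rw [map_mul, ← e, ← map_mul, inv_mul_cancel]
  refine Subgroup.mem_center_iff.2 fun b => hinj ?_
  rw [map_mul, map_mul, hω]
  exact LinearMap.ext fun v => by simp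

/-- Central elements multiply a faithful irreducible character by a scalar of absolute value one. -/
theorem central_mul {χ : G → ℂ} (hχ : Cfsg.IsIrrCharacter G χ) {k : G}
    (hk : k ∈ Subgroup.center G) :
    ∃ c : ℂ, ‖c‖ = 1 ∧ ∀ b, χ (b * k) = c * χ b := by
  obtain ⟨c, hcn, hc⟩ := Blocks.exists_central_scalar ⟨χ, hχ⟩ hk
  refine ⟨c, ?_, hc⟩
  rw [Complex.mul_conj'] at hcn
  have h : ‖c‖ ^ 2 = 1 := by exact_mod_cast hcn
  exact (sq_eq_one_iff.1 h).resolve_right fun e => by linarith [norm_nonneg c]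

end Cfsg.Agent.PrimeBlock.SubTwo
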