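import Cfsg.Agent.Lib.PrimeBlock.SubTwo.Local

/-!
# Sums over the `p`-singular elements
-/

set_option autoImplicit false
set_option linter.style.haveILetI false
set_option linter.unusedSectionVars false

namespace Cfsg.Agent.PrimeBlock.SubTwo

open Cfsg.Agent.Characters Cfsg.Agent.Blocks
open scoped ComplexConjugate

universe u

/-- Products of pairs, summed over the units. -/
theorem sum_cs_mul {p : ℕ} [Fact p.Prime] {ζ : ℂ} (hζ : IsPrimitiveRoot ζ p) (hp : p ≠ 2)
    {a b : ZMod p} (ha : a ≠ 0) :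
    ∑ i : (ZMod p)ˣ, cs ζ ((i : ZMod p) * a) * cs ζ ((i : ZMod p) * b) =
      if a = b ∨ a = -b then 2 * (p : ℂ) - 4 else -4 := by
  by_cases hab : a = b ∨ a = -b
  · rw [if_pos hab, ← sum_cs_sq hζ hp ha]
    refine Finset.sum_congr rfl fun i _ => ?_
    rcases hab with rfl | rfl
    · rfl
    · congr 1
      simp only [cs, mul_neg, neg_neg, add_comm]
  · rw [if_neg hab]
    obtain ⟨h1, h2⟩ := not_or.1 hab
    simp only [cs_mul hζ, ← mul_add, ← mul_sub, Finset.sum_add_distrib, sum_cs hζ]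
    rw [if_neg fun e => h2 (eq_neg_of_add_eq_zero_left e), if_neg fun e => h1 (sub_eq_zero.1 e)]
    norm_num

variable {G : Type u} [Group G] [Fintype G] {p : ℕ} [Fact p.Prime] {P : Sylow p G}
  {χ : Cfsg.IrrCharacter G} (S : Setting P χ)

theorem Setting.g_pow_p : S.g ^ p = 1 := by simpa [S.order] using pow_orderOf_eq_one S.g

theorem Setting.pow_val_mul (a b : ZMod p) : (S.g ^ a.val) ^ b.val = S.g ^ (a * b).val := by
  rw [← pow_mul]
  exact pow_eq_of_natCast S.order (by simp [Nat.cast_mul, ZMod.natCast_rightInverse _])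

theorem Setting.orderOf_pow {i : ZMod p} (hi : i ≠ 0) : orderOf (S.g ^ i.val) = p := by
  refine orderOf_eq_prime (by rw [← pow_mul, mul_comm, pow_mul, S.g_pow_p, one_pow]) fun e => ?_
  rw [← pow_zero S.g] at e
  have h := natCast_eq_of_pow S.order e
  rw [ZMod.natCast_rightInverse i, Nat.cast_zero] at h
  exact hi h

theorem Setting.zpowers_pow {i : ZMod p} (hi : i ≠ 0) :
    Subgroup.zpowers (S.g ^ i.val) = (P : Subgroup G) := by
  rw [← S.gen]
  refine Subgroup.eq_of_le_of_card_ge (Subgroup.zpowers_le.2 (pow_mem (Subgroup.mem_zpowers _) _)) ?_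
  rw [Nat.card_zpowers, Nat.card_zpowers, S.order, S.orderOf_pow hi]

theorem comm_center {k : G} (hk : k ∈ Subgroup.center G) (a : G) : Commute a k :=
  Subgroup.mem_center_iff.1 hk a

theorem Setting.isPPart {i : ZMod p} (hi : i ≠ 0) {k : G} (hk : k ∈ Subgroup.center G) (n : G) :
    Cfsg.IsPPart p (n * (S.g ^ i.val * k) * n⁻¹) (n * S.g ^ i.val * n⁻¹) := by
  refine ⟨k, ?_, comm_center hk _, ⟨1, ?_⟩, S.regular_center k hk⟩
  · rw [mul_assoc (n * S.g ^ i.val) n⁻¹ k, (comm_center hk n⁻¹).eq]; group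
  · rw [pow_one, show n * S.g ^ i.val * n⁻¹ = MulAut.conj n (S.g ^ i.val) from rfl,
      MulEquiv.orderOf_eq, S.orderOf_pow hi]

/-- **Summation over the `p`-singular elements.** -/
theorem Setting.sum_singular [Fintype (Subgroup.center G)] (F : G → ℂ) (hF : Cfsg.IsClassFunction G F) :
    (Nat.card (Subgroup.normalizer ((P : Subgroup G) : Set G)) : ℂ) *
        ∑ a ∈ Finset.univ.filter (fun a : G => p ∣ orderOf a), F a =
      (Nat.card G : ℂ) * ∑ i : (ZMod p)ˣ, ∑ k : Subgroup.center G,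
        F (S.g ^ (i : ZMod p).val * k) := by
  classical
  set Ψ : G × ((ZMod p)ˣ × Subgroup.center G) → G := fun x =>
    x.1 * (S.g ^ (x.2.1 : ZMod p).val * x.2.2) * x.1⁻¹
  have hmaps : ∀ x ∈ (Finset.univ : Finset (G × ((ZMod p)ˣ × Subgroup.center G))),
      Ψ x ∈ Finset.univ.filter (fun a : G => p ∣ orderOf a) := fun x _ =>
    Finset.mem_filter.2 ⟨Finset.mem_univ _, by
      rw [show Ψ x = MulAut.conj x.1 (S.g ^ (x.2.1 : ZMod p).val * x.2.2) from rfl,
        MulEquiv.orderOf_eq]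
      exact S.singular _ x.2.1.ne_zero _ x.2.2.2⟩
  have h1 : ∑ x, F (Ψ x) = (Nat.card G : ℂ) * ∑ i : (ZMod p)ˣ, ∑ k : Subgroup.center G,
      F (S.g ^ (i : ZMod p).val * k) := by
    simp only [Ψ, Fintype.sum_prod_type]
    rw [Finset.sum_congr rfl fun x _ => Finset.sum_congr rfl fun i _ => Finset.sum_congr rfl fun k _ =>
      hF _ x, Finset.sum_const, Finset.card_univ, nsmul_eq_mul, Nat.card_eq_fintype_card]
  rw [← h1, ← Finset.sum_fiberwise_of_maps_to hmaps (fun x => F (Ψ x)), Finset.mul_sum]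
  refine Finset.sum_congr rfl fun a ha => ?_
  rw [Finset.sum_congr rfl (g := fun _ => F a) fun x hx => by rw [(Finset.mem_filter.1 hx).2],
    Finset.sum_const, nsmul_eq_mul]
  congr 2
  -- the fibre is a torsor for the normalizer
  rcases S.regular_or_conj a with hr | ⟨i₀, hi₀, k₀, hk₀, hc⟩
  · exact absurd (Finset.mem_filter.1 ha).2 hr
  obtain ⟨c, hc⟩ := isConj_iff.1 hc
  set N := Subgroup.normalizer ((P : Subgroup G) : Set G)
  choose v hv using fun n : N => S.weight n n.2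
  rw [Nat.card_eq_fintype_card, ← Finset.card_univ]
  refine Finset.card_bij
    (fun n _ => (c⁻¹ * n, ((v n)⁻¹ * Units.mk0 i₀ hi₀, (⟨k₀, hk₀⟩ : Subgroup.center G))))
    (fun n _ => ?_) (fun n _ n' _ e => Subtype.ext (mul_left_cancel (congrArg Prod.fst e))) ?_
  · refine Finset.mem_filter.2 ⟨Finset.mem_univ _, ?_⟩
    set i : ZMod p := (((v n)⁻¹ * Units.mk0 i₀ hi₀ : (ZMod p)ˣ) : ZMod p)
    have hi : (n : G) * S.g ^ i.val * (n : G)⁻¹ = S.g ^ i₀.val := by
      rw [← conj_pow, hv, S.pow_val_mul]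
      congr 2
      show ((v n : ZMod p)) * (((v n)⁻¹ * Units.mk0 i₀ hi₀ : (ZMod p)ˣ) : ZMod p) = i₀
      rw [← Units.val_mul, mul_inv_cancel_left, Units.val_mk0]
    have hi' : (n : G) * (S.g ^ i.val * k₀) * (n : G)⁻¹ = S.g ^ i₀.val * k₀ := by
      rw [← hi, mul_assoc ((n : G) * S.g ^ i.val) (n : G)⁻¹ k₀,
        (comm_center hk₀ (n : G)⁻¹).eq]
      group
    show c⁻¹ * n * (S.g ^ i.val * k₀) * (c⁻¹ * n)⁻¹ = a
    calc c⁻¹ * n * (S.g ^ i.val * k₀) * (c⁻¹ * n)⁻¹
        = c⁻¹ * ((n : G) * (S.g ^ i.val * k₀) * (n : G)⁻¹) * c := by group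
      _ = a := by rw [hi', ← hc]; group
  · rintro ⟨d, i, k⟩ hx
    have hx' := (Finset.mem_filter.1 hx).2
    have hx'' : c * d * (S.g ^ (i : ZMod p).val * k) * (c * d)⁻¹ = S.g ^ i₀.val * k₀ := by
      rw [← hc, ← hx']
      simp only [Ψ]
      group
    have hpp := hx'' ▸ S.isPPart i.ne_zero k.2 (c * d)
    have hpp' : Cfsg.IsPPart p (S.g ^ i₀.val * k₀) (S.g ^ i₀.val) := by
      simpa using S.isPPart hi₀ hk₀ 1
    have hpart := ppart_unique (Fact.out : p.Prime) hpp hpp'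
    have hmem : c * d ∈ N := by
      refine Sylow.smul_eq_iff_mem_normalizer.1 (Sylow.ext ?_)
      have h2 : (P : Subgroup G).map (MulAut.conj (c * d)).toMonoidHom = (P : Subgroup G) := by
        conv_lhs => rw [← S.zpowers_pow i.ne_zero]
        rw [MonoidHom.map_zpowers, ← S.zpowers_pow hi₀, ← hpart]
        rfl
      exact h2
    have hk : (k : G) = k₀ := by
      have h2 : c * d * S.g ^ (i : ZMod p).val * (c * d)⁻¹ * k = S.g ^ i₀.val * k₀ := by
        rw [← hx'', mul_assoc (c * d * S.g ^ (i : ZMod p).val) (c * d)⁻¹ (k : G),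
          (comm_center k.2 (c * d)⁻¹).eq]
        group
      rw [hpart] at h2
      exact mul_left_cancel h2
    refine ⟨⟨c * d, hmem⟩, Finset.mem_univ _, ?_⟩
    refine Prod.ext (by simp) (Prod.ext ?_ (Subtype.ext hk.symm))
    rw [inv_mul_eq_iff_eq_mul]
    refine Units.ext ?_
    have h3 := hv ⟨c * d, hmem⟩
    have h4 : S.g ^ ((v ⟨c * d, hmem⟩ : ZMod p) * i).val = S.g ^ i₀.val := by
      rw [← S.pow_val_mul, ← h3, conj_pow, hpart]
    have h5 := natCast_eq_of_pow S.order h4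
    rw [ZMod.natCast_rightInverse _, ZMod.natCast_rightInverse _] at h5
    simpa using h5.symm

end Cfsg.Agent.PrimeBlock.SubTwo
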