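import Cfsg.Agent.Lib.PrimeBlock.SubTwo.Products

/-!
# The values on the regular elements, when the centre has odd order
-/

set_option autoImplicit false
set_option linter.style.haveILetI false
set_option linter.unusedSectionVars false

namespace Cfsg.Agent.PrimeBlock.SubTwo

open Cfsg.Agent.Characters Cfsg.Agent.Blocks
open scoped ComplexConjugate

universe u

/-- A periodic orbit of `x ↦ x² / c` on the non-negative reals is `0` or `c`. -/
theorem eq_zero_or_eq {c : ℝ} (hc : 0 < c) (x : ℕ → ℝ) (h0 : ∀ k, 0 ≤ x k)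
    (h : ∀ k, x k ^ 2 = c * x (k + 1)) {L : ℕ} (hL : 0 < L) (hper : x L = x 0) :
    x 0 = 0 ∨ x 0 = c := by
  have hy : ∀ k, x k / c = (x 0 / c) ^ 2 ^ k := by
    intro k
    induction k with
    | zero => simp
    | succ k ih =>
      rw [pow_succ, pow_mul, ← ih, div_pow, h k, pow_two, mul_div_mul_left _ _ hc.ne']
  have h1 := hy L
  rw [hper] at h1
  obtain ⟨n, hn⟩ : ∃ n, 2 ^ L = n + 2 :=
    ⟨2 ^ L - 2, by have := Nat.le_self_pow hL.ne' 2; omega⟩
  rcases eq_or_ne (x 0) 0 with he | he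
  · exact Or.inl he
  right
  have hy0 : x 0 / c ≠ 0 := div_ne_zero he hc.ne'
  rw [hn, show n + 2 = n + 1 + 1 by omega, pow_succ] at h1
  have h2 : (x 0 / c) ^ (n + 1) = 1 :=
    mul_right_cancel₀ hy0 (by rw [one_mul]; exact h1.symm)
  rw [pow_eq_one_iff_of_nonneg (div_nonneg (h0 0) hc.le) (by omega)] at h2
  exact (div_eq_one_iff_eq hc.ne').1 h2

/-- An integral sum of `r`-th roots of unity, `r` a prime, counts the ones among them. -/
theorem root_sum {ι : Type*} (s : Finset ι) (t : ι → ℂ) {r : ℕ} (hr : r.Prime)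
    (ht : ∀ i ∈ s, t i ^ r = 1) (c : ℤ) (hc : ∑ i ∈ s, t i = (c : ℂ)) :
    ∃ n : ℕ, (s.card : ℤ) + ((r : ℤ) - 1) * c = (r : ℤ) * n := by
  classical
  haveI : NeZero r := ⟨hr.ne_zero⟩
  have hξ := Complex.isPrimitiveRoot_exp r hr.ne_zero
  set ξ := Complex.exp (2 * Real.pi * Complex.I / (r : ℂ))
  refine ⟨(s.filter fun i => t i = 1).card, ?_⟩
  have hpow : ∀ k ∈ Finset.range r, 0 < k → ∑ i ∈ s, t i ^ k = (c : ℂ) := by
    intro k hk hk0
    have hcop : k.Coprime r := (Nat.coprime_comm.1 (hr.coprime_iff_not_dvd.2 fun hd =>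
      absurd (Nat.le_of_dvd hk0 hd) (by rw [Finset.mem_range] at hk; omega)))
    obtain ⟨σ, hσ⟩ := BlockCharsA.AlgAut.exists_aut hξ (ZMod.unitOfCoprime k hcop)
    rw [ZMod.coe_unitOfCoprime, ZMod.val_natCast, ← pow_eq_pow_mod _ hξ.pow_eq_one] at hσ
    rw [← map_intCast σ c, ← hc, map_sum]
    refine Finset.sum_congr rfl fun i hi => ?_
    obtain ⟨e, -, he⟩ := hξ.eq_pow_of_pow_eq_one (ht i hi)
    rw [← he, map_pow, hσ, ← pow_mul, ← pow_mul, mul_comm k]
  have h1 : ∑ k ∈ Finset.range r, ∑ i ∈ s, t i ^ k =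
      (r : ℂ) * ((s.filter fun i => t i = 1).card : ℂ) := by
    rw [Finset.sum_comm, Finset.sum_congr rfl fun i hi => show
      ∑ k ∈ Finset.range r, t i ^ k = if t i = 1 then (r : ℂ) else 0 by
        split_ifs with h
        · simp [h]
        · rw [geom_sum_eq h, ht i hi, sub_self, zero_div],
      ← Finset.sum_filter, Finset.sum_const, nsmul_eq_mul, mul_comm]
  have hsplit : Finset.range r = insert 0 ((Finset.range r).erase 0) :=
    (Finset.insert_erase (Finset.mem_range.2 hr.pos)).symm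
  rw [hsplit, Finset.sum_insert (Finset.notMem_erase _ _), Finset.sum_congr rfl (g := fun _ => (c : ℂ))
    fun k hk => hpow k (Finset.mem_erase.1 hk).2 (Nat.pos_of_ne_zero (Finset.mem_erase.1 hk).1),
    Finset.sum_const, Finset.card_erase_of_mem (Finset.mem_range.2 hr.pos), Finset.card_range] at h1
  simp only [pow_zero, Finset.sum_const, nsmul_eq_mul, mul_one, Nat.cast_sub hr.one_le] at h1
  exact_mod_cast h1

variable {G : Type u} [Group G] [Fintype G] {p : ℕ} [Fact p.Prime] {P : Sylow p G}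
  {χ : Cfsg.IrrCharacter G} (S : Setting P χ) {W : ℕ} (hW : Twist G p W)
  (hodd : Odd (Nat.card (Subgroup.center G)))
  (hfaith : ∀ a, (χ : G → ℂ) a = (χ : G → ℂ) 1 → a = 1)
  (hdeg : (χ : G → ℂ) 1 = ((p - 2 : ℕ) : ℂ))

include hodd in
theorem not_central_involution {z : G} (hz : orderOf z = 2) : z ∉ Subgroup.center G := fun h => by
  have h1 : 2 ∣ Nat.card (Subgroup.center G) := hz ▸ (Subgroup.center G).orderOf_dvd_natCard h
  exact (Nat.not_even_iff_odd.2 hodd) (even_iff_two_dvd.2 h1)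

theorem exists_two_pow {n : ℕ} (hn : Odd n) : ∃ L, 0 < L ∧ 2 ^ L ≡ 1 [MOD n] :=
  ⟨n.totient, Nat.totient_pos.2 hn.pos,
    Nat.ModEq.pow_totient (Nat.prime_two.coprime_iff_not_dvd.2 fun h =>
      (Nat.not_even_iff_odd.2 hn) (even_iff_two_dvd.2 h))⟩

theorem pow_two_pow_per {a : G} {L : ℕ} (hL : 2 ^ L ≡ 1 [MOD orderOf a]) : a ^ 2 ^ L = a := by
  conv_rhs => rw [← pow_one a]
  exact pow_eq_pow_iff_modEq.2 hL

include S hW hodd hfaith hdeg in
/-- On a non-central regular element of odd order the character vanishes. -/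
theorem value_odd {a : G} (ha : ¬ p ∣ orderOf a) (hao : Odd (orderOf a))
    (hac : a ∉ Subgroup.center G) : (χ : G → ℂ) a = 0 := by
  have h5 := S.two_lt
  have hd : ((p - 2 : ℕ) : ℝ) > 0 := by exact_mod_cast (show 0 < p - 2 by omega)
  obtain ⟨L, hL0, hL⟩ := exists_two_pow hao
  have hrec : ∀ k, ‖(χ : G → ℂ) (a ^ 2 ^ k)‖ ^ 2 =
      ((p - 2 : ℕ) : ℝ) * ‖(χ : G → ℂ) (a ^ 2 ^ (k + 1))‖ := by
    intro k
    have hr := regular_pow ha (2 ^ k)
    have h := S.square_reg hW hodd hdeg hr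
    rw [hW.sq _ (hao.of_dvd_nat (orderOf_pow_dvd _)) hr, ← pow_two (a ^ 2 ^ k), ← pow_mul,
      ← pow_succ] at h
    rw [← norm_pow, ← Complex.norm_natCast, ← norm_mul]
    congr 1
    rw [show p - 2 = p - 3 + 1 by omega, Nat.cast_add, Nat.cast_one]
    linear_combination h
  rcases eq_zero_or_eq hd (fun k => ‖(χ : G → ℂ) (a ^ 2 ^ k)‖) (fun k => norm_nonneg _) hrec hL0
    (by simp [pow_two_pow_per hL]) with h | h
  · simpa using h
  · refine absurd (scalar_of_norm χ.2 hfaith ?_) hac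
    simp only [pow_zero, pow_one] at h
    rw [h, hdeg, Complex.norm_natCast]

theorem regular_of_two {z : G} (h5 : 5 < p) {k : ℕ} (hz : orderOf z = 2 ^ k) : ¬ p ∣ orderOf z := by
  rw [hz]
  intro h
  have := Nat.le_of_dvd two_pos ((Fact.out : p.Prime).dvd_of_dvd_pow h)
  omega

include S hW hodd hfaith hdeg in
/-- An involution has value `-1`. -/
theorem value_involution {z : G} (hz : orderOf z = 2) : (χ : G → ℂ) z = -1 := by
  have h5 := S.two_lt
  have h := S.square_reg hW hodd hdeg (regular_of_two h5 (k := 1) (by rw [hz, pow_one]))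
  rw [hW.fix z (Or.inl ⟨1, by rw [hz, pow_one]⟩),
    show z * z = 1 by rw [← pow_two, ← hz, pow_orderOf_eq_one], hdeg,
    show p - 2 = p - 3 + 1 by omega, Nat.cast_add, Nat.cast_one] at h
  have h1 : ((χ : G → ℂ) z + 1) * ((χ : G → ℂ) z - (((p - 3 : ℕ) : ℂ) + 1)) = 0 := by
    linear_combination h
  rcases mul_eq_zero.1 h1 with e | e
  · linear_combination e
  · refine absurd (scalar_of_norm χ.2 hfaith ?_) (not_central_involution hodd hz)
    rw [sub_eq_zero.1 e, hdeg, show p - 2 = p - 3 + 1 by omega, Nat.cast_add, Nat.cast_one]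

include S hW hodd hfaith hdeg in
/-- There is no element of order four. -/
theorem no_four (a : G) : orderOf a ≠ 4 := by
  intro ha
  have h5 := S.two_lt
  have ha2 : orderOf (a ^ 2) = 2 := by rw [orderOf_pow, ha]; norm_num
  have h := S.square_reg hW hodd hdeg (regular_of_two h5 (k := 2) (by rw [ha]; norm_num))
  rw [hW.fix a (Or.inl ⟨2, by rw [ha]; norm_num⟩), ← pow_two a,
    value_involution S hW hodd hfaith hdeg ha2] at h
  obtain ⟨c, hc⟩ : ∃ c : ℤ, ((χ : G → ℂ) a).re = c := by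
    obtain ⟨n, ρ, hρ, hρe⟩ := χ.2
    rw [← hρe]
    obtain ⟨w, hw, hsum⟩ := exists_rootsOfUnity_sum ρ a
    have h1 := hsum 1
    simp only [pow_one] at h1
    have hint : ∀ i, ∃ c : ℤ, (w i).re = c := by
      intro i
      have hwi := hw i
      rw [ha] at hwi
      have h4 : (w i - 1) * (w i + 1) * (w i - Complex.I) * (w i + Complex.I) = 0 := by
        linear_combination hwi + (1 - w i ^ 2) * Complex.I_sq
      rcases mul_eq_zero.1 h4 with h4 | h4
      · rcases mul_eq_zero.1 h4 with h4 | h4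
        · rcases mul_eq_zero.1 h4 with h4 | h4
          · exact ⟨1, by rw [sub_eq_zero.1 h4]; simp⟩
          · exact ⟨-1, by rw [eq_neg_of_add_eq_zero_left h4]; simp⟩
        · exact ⟨0, by rw [sub_eq_zero.1 h4]; simp⟩
      · exact ⟨0, by rw [eq_neg_of_add_eq_zero_left h4]; simp⟩
    choose c hc using hint
    exact ⟨∑ i, c i, by rw [h1, Complex.re_sum]; push_cast; simp only [hc]⟩
  have hre := congrArg Complex.re h
  have him := congrArg Complex.im h
  simp only [Complex.sub_re, Complex.sub_im, Complex.mul_re, Complex.mul_im, Complex.natCast_re,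
    Complex.natCast_im, Complex.neg_re, Complex.neg_im, Complex.one_re, Complex.one_im, pow_two,
    hc] at hre him
  set y := ((χ : G → ℂ) a).im
  have hm : (4 : ℝ) ≤ ((p - 3 : ℕ) : ℝ) := by
    exact_mod_cast (show 4 ≤ p - 3 by
      have h6 : p ≠ 6 := fun e => absurd (Fact.out : p.Prime) (by rw [e]; norm_num)
      omega)
  rcases eq_or_ne y 0 with hy | hy
  · rw [hy] at hre
    have hre' : (c * (((p - 3 : ℕ) : ℤ) - c) : ℤ) = 1 := by
      have : ((c * (((p - 3 : ℕ) : ℤ) - c) : ℤ) : ℝ) = ((1 : ℤ) : ℝ) := by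
        push_cast; linear_combination -hre
      exact_mod_cast this
    rcases Int.eq_one_or_neg_one_of_mul_eq_one hre' with hc' | hc'
    · rw [hc'] at hre'; simp at hre'; omega
    · rw [hc'] at hre'; simp at hre'; omega
  · have h2 : 2 * (c : ℝ) = ((p - 3 : ℕ) : ℝ) := mul_right_cancel₀ hy (by linear_combination him)
    nlinarith [mul_self_nonneg y]

include S hW hodd hfaith hdeg in
/-- No involution commutes with a non-central odd element whose `r`-th power is central. -/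
theorem no_mixed {z u : G} (hz : orderOf z = 2) (hu : ¬ p ∣ orderOf u) (huo : Odd (orderOf u))
    (huc : u ∉ Subgroup.center G) {r : ℕ} (hr : r.Prime) (hr2 : r ≠ 2)
    (hur : u ^ r ∈ Subgroup.center G) : ¬ Commute z u := by
  classical
  intro hzu
  have h5 := S.two_lt
  have hp : p.Prime := Fact.out
  obtain ⟨h, hh⟩ : ∃ h, p = 2 * h + 1 := by
    rcases hp.eq_two_or_odd' with e | ⟨h, e⟩
    · omega
    · exact ⟨h, e⟩
  set q := orderOf u with hq
  set b := z * u with hb
  have hz2 : z ^ 2 = 1 := hz ▸ pow_orderOf_eq_one z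
  have huq : u ^ q = 1 := pow_orderOf_eq_one u
  obtain ⟨t₀, ht₀⟩ := huo
  have hzodd : ∀ n, z ^ (2 * n + 1) = z := fun n => by rw [pow_succ, pow_mul, hz2, one_pow, one_mul]
  have hzeven : ∀ n, z ^ (2 * n) = 1 := fun n => by rw [pow_mul, hz2, one_pow]
  have hbq : b ^ q = z := by rw [hzu.mul_pow, huq, mul_one, ht₀, hzodd]
  have hbq1 : b ^ (q + 1) = u := by
    rw [hzu.mul_pow, pow_succ u, huq, one_mul, ht₀, show 2 * t₀ + 1 + 1 = 2 * (t₀ + 1) by omega,
      hzeven, one_mul]
  have hzreg : ¬ p ∣ orderOf z := regular_of_two h5 (k := 1) (by rw [hz, pow_one])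
  -- the absolute value at `z u`
  have hnc2 : ∀ k, u ^ 2 ^ k ∉ Subgroup.center G := fun k hk => huc (by
    have hcop : (2 ^ k).Coprime q := Nat.Coprime.pow_left k
      (Nat.prime_two.coprime_iff_not_dvd.2 (by omega))
    obtain ⟨m, -, hm⟩ := Nat.exists_mul_mod_eq_one_of_coprime hcop (by
      rcases Nat.lt_or_ge q 2 with hlt | hge
      · exfalso
        have : q = 1 := by omega
        exact huc (by rw [orderOf_eq_one_iff.1 this]; exact one_mem _)
      · omega)
    have := pow_mem hk m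
    rwa [← pow_mul, ← pow_mod_orderOf, ← hq, hm, pow_one] at this)
  have hm0 : (0 : ℝ) < ((p - 3 : ℕ) : ℝ) := by exact_mod_cast (show 0 < p - 3 by omega)
  have hrec : ∀ k, ‖(χ : G → ℂ) (z * u ^ 2 ^ k)‖ ^ 2 =
      ((p - 3 : ℕ) : ℝ) * ‖(χ : G → ℂ) (z * u ^ 2 ^ (k + 1))‖ := by
    intro k
    have hc : Commute z (u ^ 2 ^ k) := hzu.pow_right _
    have hrk := regular_pow hu (2 ^ k)
    have hok : Odd (orderOf (u ^ 2 ^ k)) := Odd.of_dvd_nat ⟨t₀, ht₀⟩ (orderOf_pow_dvd _)
    have h := S.square_reg hW hodd hdeg (orderOf_mul_not_dvd hp hc hzreg hrk)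
    rw [hc.mul_pow, hW.fix z (Or.inl ⟨1, by rw [hz, pow_one]⟩), hW.sq _ hok hrk,
      ← pow_two (z * u ^ 2 ^ k), hc.mul_pow, hz2, one_mul, ← pow_mul, ← pow_succ,
      value_odd S hW hodd hfaith hdeg (regular_pow hu _) (Odd.of_dvd_nat ⟨t₀, ht₀⟩ (orderOf_pow_dvd _))
        (hnc2 _), sub_zero] at h
    rw [← norm_pow, ← Complex.norm_natCast, ← norm_mul, h]
  obtain ⟨L, hL0, hL⟩ := exists_two_pow (⟨t₀, ht₀⟩ : Odd q)
  have hv := eq_zero_or_eq hm0 (fun k => ‖(χ : G → ℂ) (z * u ^ 2 ^ k)‖) (fun k => norm_nonneg _) hrec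
    hL0 (by simp [pow_two_pow_per hL])
  simp only [pow_zero, pow_one, ← hb] at hv
  have hvu := value_odd S hW hodd hfaith hdeg hu ⟨t₀, ht₀⟩ huc
  have hvz := value_involution S hW hodd hfaith hdeg hz
  have hwn : ‖(χ : G → ℂ) (u ^ r)‖ = ((p - 2 : ℕ) : ℝ) := by
    obtain ⟨c, hc1, hc⟩ := central_mul χ.2 hur
    have := hc 1
    rw [one_mul] at this
    rw [this, norm_mul, hc1, one_mul, hdeg, Complex.norm_natCast]
  -- eigenvalues of `b`
  obtain ⟨n, ρ, hρ, hρe⟩ := χ.2
  rw [← hρe] at hvu hvz hwn hv hdeg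
  have hfin : (Module.finrank ℂ (Fin n → ℂ) : ℂ) = ((p - 2 : ℕ) : ℂ) := ρ.char_one ▸ hdeg
  have hfin' : Module.finrank ℂ (Fin n → ℂ) = p - 2 := by exact_mod_cast hfin
  obtain ⟨w, hw, hsum⟩ := exists_rootsOfUnity_sum ρ b
  have hb2q : b ^ (2 * q) = 1 := by rw [mul_comm, pow_mul, hbq, hz2]
  have hw2q : ∀ i, w i ^ (2 * q) = 1 := fun i => by
    obtain ⟨c, hc⟩ := orderOf_dvd_of_pow_eq_one hb2q
    rw [hc, pow_mul, hw, one_pow]
  have hwn1 : ∀ i, ‖w i‖ = 1 := fun i =>
    Complex.norm_eq_one_of_pow_eq_one (hw2q i) (by omega)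
  set v : Fin (Module.finrank ℂ (Fin n → ℂ)) → ℂ := fun i => w i ^ (q + 1)
  set A := Finset.univ.filter (fun i => w i ^ q = 1)
  set B := Finset.univ.filter (fun i => ¬ w i ^ q = 1)
  have hsB : ∀ i ∈ B, w i ^ q = -1 := fun i hi => by
    have h1 : (w i ^ q) ^ 2 = 1 := by rw [← pow_mul, mul_comm, hw2q]
    exact (sq_eq_one_iff.1 h1).resolve_left (Finset.mem_filter.1 hi).2
  have hvw : ∀ i, w i = w i ^ q * v i := fun i => by
    rw [← pow_add, show q + (q + 1) = 2 * q + 1 by ring, pow_succ, hw2q, one_mul]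
  have hcardAB : A.card + B.card = p - 2 := by
    rw [Finset.card_filter_add_card_filter_not, Finset.card_univ, Fintype.card_fin, hfin']
  have hsumz : (A.card : ℂ) - B.card = -1 := by
    rw [← hvz, ← hbq, hsum, ← Finset.sum_filter_add_sum_filter_not Finset.univ (fun i => w i ^ q = 1),
      Finset.sum_congr rfl fun i hi => (Finset.mem_filter.1 hi).2,
      Finset.sum_congr (s₁ := B) rfl hsB]
    simp [A, B, sub_eq_add_neg]
  have hAB : A.card + 1 = B.card := by
    have : ((A.card + 1 : ℕ) : ℂ) = B.card := by push_cast; linear_combination hsumz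
    exact_mod_cast this
  have hsplit : ∑ i ∈ A, v i + ∑ i ∈ B, v i = 0 := by
    rw [Finset.sum_filter_add_sum_filter_not, ← hsum, hbq1, hvu]
  have hsplit' : ∑ i ∈ A, v i - ∑ i ∈ B, v i = ρ.character b := by
    have h1 := hsum 1
    simp only [pow_one] at h1
    rw [h1, ← Finset.sum_filter_add_sum_filter_not Finset.univ (fun i => w i ^ q = 1),
      sub_eq_add_neg, ← Finset.sum_neg_distrib]
    congr 1
    · exact Finset.sum_congr rfl fun i hi => by
        rw [hvw i, (Finset.mem_filter.1 hi).2, one_mul]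
    · exact Finset.sum_congr rfl fun i hi => by rw [hvw i, hsB i hi, neg_one_mul]
  have hvn : ∀ i, ‖v i‖ = 1 := fun i => by rw [norm_pow, hwn1, one_pow]
  have hv0 : ∀ i, v i ≠ 0 := fun i e => by simpa [e] using hvn i
  have hβ : ∀ i j, v i ^ r = v j ^ r := by
    have h1 : ‖∑ i, v i ^ r‖ = ((Finset.univ : Finset (Fin (Module.finrank ℂ (Fin n → ℂ)))).card : ℝ) := by
      rw [Finset.card_univ, Fintype.card_fin, show ((Module.finrank ℂ (Fin n → ℂ) : ℕ) : ℝ) =
        ((p - 2 : ℕ) : ℝ) from congrArg _ hfin', ← hwn, ← hbq1, ← pow_mul, hsum]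
      exact congrArg norm (Finset.sum_congr rfl fun i _ => by rw [← pow_mul])
    have h2 := eq_of_norm_sum (fun i _ => by rw [norm_pow, hvn, one_pow]) h1
    intro i j
    refine mul_left_cancel₀ ?_ ((h2 i (Finset.mem_univ _)).trans (h2 j (Finset.mem_univ _)).symm)
    rw [Finset.card_univ, Fintype.card_fin]
    exact Nat.cast_ne_zero.2 (by omega)
  have hA2 : 2 ≤ A.card := by omega
  have hBh : B.card = h := by omega
  rcases hv with hv | hv
  · -- both parts vanish
    rw [norm_eq_zero] at hv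
    have hA0 : ∑ i ∈ A, v i = 0 := by linear_combination (hsplit + hsplit' + hv) / 2
    have hB0 : ∑ i ∈ B, v i = 0 := by linear_combination hsplit - hA0
    obtain ⟨i₀, hi₀⟩ := Finset.card_pos.1 (show 0 < A.card by omega)
    have key : ∀ s : Finset (Fin (Module.finrank ℂ (Fin n → ℂ))), ∑ i ∈ s, v i = 0 →
        (r : ℤ) ∣ s.card := by
      intro s hs
      obtain ⟨k, hk⟩ := root_sum s (fun i => v i / v i₀) hr
        (fun i _ => by rw [div_pow, hβ i i₀, div_self (pow_ne_zero _ (hv0 _))]) 0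
        (by rw [← Finset.sum_div, hs, zero_div]; simp)
      exact ⟨k, by simpa using hk⟩
    have h1 : (r : ℤ) ∣ 1 := by
      have := dvd_sub (key B hB0) (key A hA0)
      rwa [show (B.card : ℤ) - A.card = 1 by rw [← hAB]; push_cast; ring] at this
    exact hr.ne_one (by exact_mod_cast Int.eq_one_of_dvd_one (Int.natCast_nonneg r) h1)
  · -- one part is scalar
    have hA1 : ∑ i ∈ A, v i = ρ.character b / 2 := by linear_combination (hsplit + hsplit') / 2
    have hnA : ‖∑ i ∈ A, v i‖ = (A.card : ℝ) := by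
      rw [hA1, norm_div, hv, show p - 3 = A.card * 2 by omega]
      simp
    have heq := eq_of_norm_sum (fun i _ => hvn i) hnA
    obtain ⟨i₀, hi₀⟩ := Finset.card_pos.1 (show 0 < A.card by omega)
    obtain ⟨k, hk⟩ := root_sum B (fun i => v i / v i₀) hr
      (fun i _ => by rw [div_pow, hβ i i₀, div_self (pow_ne_zero _ (hv0 _))]) (-(A.card : ℤ))
      (by
        rw [← Finset.sum_div, show ∑ i ∈ B, v i = -∑ i ∈ A, v i by linear_combination hsplit,
          ← heq i₀ hi₀, neg_div, mul_div_assoc, div_self (hv0 _), mul_one]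
        simp)
    have hr3 : (3 : ℤ) ≤ r := by
      exact_mod_cast (show 3 ≤ r by have := hr.two_le; omega)
    have hA2' : (2 : ℤ) ≤ A.card := by exact_mod_cast hA2
    have hBZ : (B.card : ℤ) = A.card + 1 := by rw [← hAB]; push_cast; ring
    nlinarith [Int.natCast_nonneg k]

include S hW hodd hfaith hdeg in
/-- The regular elements where the character does not vanish. -/
theorem regular_cases {a : G} (ha : ¬ p ∣ orderOf a) (hac : a ∉ Subgroup.center G) :
    (Odd (orderOf a) ∧ (χ : G → ℂ) a = 0) ∨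
      ∃ z k : G, orderOf z = 2 ∧ k ∈ Subgroup.center G ∧ a = z * k := by
  classical
  obtain ⟨x, y, hxy, hcom, ⟨k, hk⟩, hy⟩ := exists_ppart Nat.prime_two a
  have hyodd : Odd (orderOf y) := Nat.not_even_iff_odd.1 fun he => hy (even_iff_two_dvd.1 he)
  rcases Nat.lt_or_ge k 2 with hk2 | hk2
  swap
  · refine absurd ?_ (no_four S hW hodd hfaith hdeg (x ^ 2 ^ (k - 2)))
    rw [orderOf_pow, hk, Nat.gcd_eq_right (pow_dvd_pow 2 (Nat.sub_le k 2)),
      Nat.pow_div (Nat.sub_le k 2) two_pos, show k - (k - 2) = 2 by omega]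
    norm_num
  rcases (show k = 0 ∨ k = 1 by omega) with rfl | rfl
  · rw [pow_zero, orderOf_eq_one_iff] at hk
    rw [hk, one_mul] at hxy
    rw [hxy] at hyodd
    exact Or.inl ⟨hyodd, value_odd S hW hodd hfaith hdeg ha hyodd hac⟩
  rw [pow_one] at hk
  by_cases hyc : y ∈ Subgroup.center G
  · exact Or.inr ⟨x, y, hk, hyc, hxy.symm⟩
  exfalso
  set d := orderOf (QuotientGroup.mk' (Subgroup.center G) y)
  have hd1 : d ≠ 1 := fun e => hyc ((QuotientGroup.eq_one_iff y).1 (orderOf_eq_one_iff.1 e))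
  have hdy : d ∣ orderOf y := orderOf_map_dvd _ y
  set r := d.minFac
  have hr : r.Prime := Nat.minFac_prime hd1
  have hd0 : 0 < d := orderOf_pos _
  have hyreg : ¬ p ∣ orderOf y := by
    intro hd
    refine ha ?_
    rw [← hxy, hcom.orderOf_mul_eq_mul_orderOf_of_coprime (by
      rw [hk]; exact Nat.prime_two.coprime_iff_not_dvd.2 hy)]
    exact hd.mul_left _
  refine no_mixed S hW hodd hfaith hdeg hk (regular_pow hyreg (d / r))
    (hyodd.of_dvd_nat (orderOf_pow_dvd _)) ?_ hr (fun e => ?_) ?_ (hcom.pow_right _)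
  · rw [← QuotientGroup.eq_one_iff, ← QuotientGroup.mk'_apply, map_pow, ← orderOf_dvd_iff_pow_eq_one]
    intro hd
    have hrd : r ≤ d := Nat.minFac_le hd0
    exact absurd (Nat.le_of_dvd (Nat.div_pos hrd hr.pos) hd)
      (not_le.2 (Nat.div_lt_self hd0 hr.one_lt))
  · exact hy (e ▸ ((Nat.minFac_dvd d).trans hdy))
  · rw [← QuotientGroup.eq_one_iff, ← QuotientGroup.mk'_apply, map_pow, map_pow, ← pow_mul,
      Nat.div_mul_cancel (Nat.minFac_dvd d), pow_orderOf_eq_one]

end Cfsg.Agent.PrimeBlock.SubTwo
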